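import Cfsg.Agent.Lib.Known.AltE7.Main
import Cfsg.Agent.Lib.Known.AltTorus.Counting

/-!
# Degrees of alternating sections of the groups of type E7
-/

set_option autoImplicit false
set_option maxRecDepth 20000

namespace CfsgLib.Known.AltE7

open Cfsg.Lie (chevE7)
open CfsgLib.Lie.Chev hiding monP
open CfsgLib.Known.AltE6 (keyW)

/-- The data in degree fourteen. -/
def elts7 : Elts cls7 t7 where
  gens := gens7
  repc := ![![0, 0], ![1, 0], ![1, 1]]
  steps := 6
  norm := gens7_ok.1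
  inv := gens7_ok.2.1
  cover := gens7_ok.2.2.1
  cls_rep := by decide +kernel
  cls_mul := gens7_ok.2.2.2.1
  cls_zero := gens7_ok.2.2.2.2
  pow := t7_facts.1
  comm := t7_facts.2
  inj := t7_inj

/-- The data in degree fifteen. -/
def elts5 : Elts cls5 t5 where
  gens := gens5
  repc := ![![0, 0, 0], ![1, 0, 0], ![1, 1, 0], ![1, 1, 1]]
  steps := 5
  norm := gens5_ok.1
  inv := gens5_ok.2.1
  cover := gens5_ok.2.2.1
  cls_rep := by decide +kernel
  cls_mul := gens5_ok.2.2.2.1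
  cls_zero := gens5_ok.2.2.2.2
  pow := t5_facts.1
  comm := t5_facts.2
  inj := t5_inj

theorem rows7 : ∀ i j : Fin 7, co ((keyW chevE7 auxE7 word7).getD i 0) j =
    (([[0, 0, 1, 0, 0, 0, 0], [1, 1, 1, 1, 0, 0, 0], [0, 0, 0, 1, 0, 0, 0], [0, 0, 0, 0, 1, 0, 0],
      [0, 0, 0, 0, 0, 1, 0], [0, 0, 0, 0, 0, 0, 1], [-1, 0, -1, -1, -1, -1, -1]] : List (List ℤ)).getD i []).getD j 0 := by
  decide +kernel

theorem rows5 : ∀ i j : Fin 7, co ((keyW chevE7 auxE7 word5).getD i 0) j =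
    (([[0, 0, 1, 0, 0, 0, 0], [1, 1, 1, 1, 0, 0, 0], [0, 0, 0, 1, 0, 0, 0], [0, 0, 0, 0, 1, 0, 0],
      [-1, 0, -1, -1, -1, 0, 0], [1, 0, 1, 1, 1, 1, 0], [0, 0, 0, 0, 0, 0, 1]] : List (List ℤ)).getD i []).getD j 0 := by
  decide +kernel

theorem cast_of_res_eq {l : ℕ} [NeZero l] {v w : ℤ} (h : res l v = res l w) : (v : ZMod l) = w := by
  rw [← res_coe (l := l) v, h, res_coe]

theorem vals1_congr {l : ℕ} [NeZero l] {x y : Fin 7 → ℤ} (h : ∀ j, (x j : ZMod l) = y j) : vals1 l x = vals1 l y :=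
  List.map_congr_left fun r _ => res_congr (by simp [vz, Int.cast_sum, h])

theorem hfix7 (x : Fin 7 → ℤ) (h : ∀ i : Fin 7, res 7 (vz ((keyW chevE7 auxE7 word7).getD i 0) x) = res 7 (x i))
    (hU : Uni (vals1 7 x)) : ∀ i, res 7 (x i) = 0 := by
  have e := fun i => cast_of_res_eq (h i)
  simp only [vz, rows7, Fin.sum_univ_seven] at e
  have e0 := e 0; have e1 := e 1; have e2 := e 2; have e3 := e 3; have e4 := e 4; have e5 := e 5; have e6 := e 6
  simp at e0 e1 e2 e3 e4 e5 e6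
  have h0 : (x 0 : ZMod 7) = 0 := by
    have h3 : (3 : ZMod 7) * (x 0 : ZMod 7) = 0 := by linear_combination e1 - 2 * e0 - e2
    exact (mul_eq_zero.1 h3).resolve_left (by decide)
  obtain ⟨a, ha⟩ : ∃ a : Fin 7, a = res 7 (x 1) := ⟨_, rfl⟩
  have hv : vals1 7 x = vals1 7 ![0, (a : ℕ), 0, 0, 0, 0, 0] := vals1_congr fun j => by
    fin_cases j <;> simp [ha, res_coe, h0, e0, e2, e3, e4, e5]
  have ha0 : a = 0 := by
    by_contra ha0
    exact fixed_seven a ha0 (hv ▸ hU)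
  intro i
  rw [res_eq_zero_iff]
  fin_cases i
  case «1» =>
    have := res_coe (l := 7) (x 1)
    rw [← ha, ha0] at this
    simpa using this.symm
  all_goals simp [h0, e0, e2, e3, e4, e5]

theorem hfix5 (x : Fin 7 → ℤ) (h : ∀ i : Fin 7, res 5 (vz ((keyW chevE7 auxE7 word5).getD i 0) x) = res 5 (x i))
    (hU : Uni (vals1 5 x)) : ∀ i, res 5 (x i) = 0 := by
  have e := fun i => cast_of_res_eq (h i)
  simp only [vz, rows5, Fin.sum_univ_seven] at e
  have e0 := e 0; have e1 := e 1; have e2 := e 2; have e3 := e 3; have e4 := e 4; have e5 := e 5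
  simp at e0 e1 e2 e3 e4 e5
  have h0 : (x 0 : ZMod 5) = 0 := by
    have h3 : (3 : ZMod 5) * (x 0 : ZMod 5) = 0 := by linear_combination e1 - 2 * e0 - e2
    exact (mul_eq_zero.1 h3).resolve_left (by decide)
  obtain ⟨a, ha⟩ : ∃ a : Fin 5, a = res 5 (x 1) := ⟨_, rfl⟩
  obtain ⟨b, hb⟩ : ∃ b : Fin 5, b = res 5 (x 5) := ⟨_, rfl⟩
  obtain ⟨c, hc⟩ : ∃ c : Fin 5, c = res 5 (x 6) := ⟨_, rfl⟩
  have hv : vals1 5 x = vals1 5 ![0, (a : ℕ), 0, 0, 0, (b : ℕ), (c : ℕ)] := vals1_congr fun j => by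
    fin_cases j <;> simp [ha, hb, hc, res_coe, h0, e0, e2, e3]
  have habc : a = 0 ∧ b = 0 ∧ c = 0 := by
    by_contra habc
    exact fixed_five a b c (by tauto) (hv ▸ hU)
  intro i
  fin_cases i
  case «1» => exact ha ▸ habc.1
  case «5» => exact hb ▸ habc.2.1
  case «6» => exact hc ▸ habc.2.2
  all_goals rw [res_eq_zero_iff]; simp [h0, e0, e2, e3]

theorem card_alt {k c : ℕ} [NeZero k] (hk : 2 ≤ k) (h : k.factorial = 2 * c) :
    Nat.card (alternatingGroup (Fin k)) = c := by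
  haveI : Nontrivial (Fin k) := Fin.nontrivial_iff_two_le.2 hk
  have e := two_mul_nat_card_alternatingGroup (α := Fin k)
  rw [Nat.card_perm, Nat.card_fin, h] at e
  omega

theorem not_altSect {F : Type*} [Field F] [Fintype F] {p : ℕ} [Fact p.Prime] [CharP F p] {l n m r : ℕ}
    [Fact l.Prime] [NeZero l] [NeZero r] {cls : (Fin n → Fin l) → Fin r} {t : Fin n → alternatingGroup (Fin m)}
    (h5 : 5 ≤ l) (hp : p ≠ l) (hm : 14 ≤ m) (E : Elts cls t) (hn : 2 ≤ n)
    (a : alternatingGroup (Fin m)) (e : Fin n → ℕ) (ha : ∀ i, a⁻¹ * t i * a = t i ^ e i)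
    (he : ∀ i j, i ≠ j → e i * e j % l ≠ 1) (hval : ¬ l ^ (n + 1) ∣ Nat.card (alternatingGroup (Fin m)))
    {word : List ℕ} (hword : (cycTable l word).OK) {N : ℕ} (hN : 2903040 = l * N) (hlN : ¬ l ∣ N)
    (hno : ∀ (X : Fin n → Fin 7 → ℤ) (g : Fin r → ℕ), (∀ w, (vals l X).count w = g (cls w)) → g 0 ≠ 126 → False)
    (hfix : ∀ x : Fin 7 → ℤ, (∀ i : Fin 7, res l (vz ((keyW chevE7 auxE7 word).getD i 0) x) = res l (x i)) →
      Uni (vals1 l x) → ∀ i, res l (x i) = 0) : ¬ AltTorus.AltSect ↥(chevE7.group F) m := by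
  intro h
  haveI : NeZero (l - 1) := ⟨by omega⟩
  obtain ⟨F1, _, _, j, hF1⟩ := AltTorus.exists_ext F (l - 1)
  have hlq : l ∣ Fintype.card F1 - 1 := hF1 ▸ AltTorus.dvd_pow_sub_one_of_char (p := p) (Fact.out) hp (dvd_refl _)
  haveI : Finite ↥(chevE7.group F1) := (chevRel certE7 F1).Finite_of_field
  obtain ⟨H, π, hπ⟩ := exists_min (by omega) (h.map (ChevFixed.groupMap_injective j))
  have hker := ker_trivial hπ (fun Q hQn hQ => le_center_of_normal_pGroup hlq h5 hπ hm H.subtype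
    H.subtype_injective Q hQn hQ) t E.pow E.comm E.inj hval a e ha he
  obtain ⟨s, hs, hsl, hsc, hnorm⟩ := exists_exact_lifts hπ.surj hker t E.pow E.comm
  exact false_of_lifts h5 hlq H.subtype H.subtype_injective E hn hs hsl
    (fun g hg => hnorm g.1 g.2.1 (E.norm g hg)) hsc hword hN hlN hno hfix

/-- The bound on the degree. -/
theorem degree_bound {F : Type*} [Field F] [Fintype F] {p : ℕ} [Fact p.Prime] [CharP F p] {r : ℕ}
    (h : AltTorus.AltSect ↥(chevE7.group F) r) : r ≤ 13 + (if p = 7 then 1 else 0) := by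
  by_contra hlt
  haveI : Fact (Nat.Prime 7) := ⟨by norm_num⟩
  haveI : Fact (Nat.Prime 5) := ⟨by norm_num⟩
  by_cases h7 : p = 7
  · rw [if_pos h7] at hlt
    exact not_altSect (p := p) (l := 5) le_rfl (by omega) (by norm_num) elts5 (by norm_num) scal5 _ scal5_ok.1
      scal5_ok.2 (by rw [card_alt (k := 15) (c := 653837184000) (by norm_num) (by decide +kernel)]; norm_num) cyc5_ok
      (N := 580608) (by norm_num) (by norm_num) no_five hfix5 (h.le (by omega))
  · rw [if_neg h7] at hlt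
    exact not_altSect (p := p) (l := 7) (by norm_num) h7 (by norm_num) elts7 (by norm_num) scal7 _ scal7_ok.1
      scal7_ok.2 (by rw [card_alt (k := 14) (c := 43589145600) (by norm_num) (by decide +kernel)]; norm_num) cyc7_ok
      (N := 414720) (by norm_num) (by norm_num) no_seven hfix7 (h.le (by omega))

end CfsgLib.Known.AltE7
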