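import Cfsg.Agent.Lib.Known.AltE6.Cover12
import Cfsg.Agent.Lib.Known.AltTorus.Lift

/-!
# Minimal groups with an alternating group as a quotient
-/

set_option autoImplicit false

namespace CfsgLib.Known.AltE7

open Module
open CfsgLib.Known.AltE6 (exists_lin)

/-- A finite group minimal among those mapping onto an alternating group. -/
structure MinCover {m : ℕ} {H : Type*} [Group H] (π : H →* alternatingGroup (Fin m)) : Prop where
  deg : 9 ≤ m
  surj : Function.Surjective π
  min : ∀ M : Subgroup H, M.map π = ⊤ → M = ⊤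

theorem exists_min {m : ℕ} (hm : 9 ≤ m) {G : Type*} [Group G] [Finite G] (h : AltTorus.AltSect G m) :
    ∃ (H : Subgroup G) (π : ↥H →* alternatingGroup (Fin m)), MinCover π := by
  classical
  suffices hs : ∀ n (H : Subgroup G) (π : ↥H →* alternatingGroup (Fin m)), Function.Surjective π →
      Nat.card H = n → ∃ (H' : Subgroup G) (π' : ↥H' →* alternatingGroup (Fin m)), MinCover π' by
    obtain ⟨H, π, hπ⟩ := h
    exact hs _ H π hπ rfl
  intro n
  induction n using Nat.strong_induction_on with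
  | _ n ih =>
  intro H π hπ hn
  by_cases hmin : ∀ M : Subgroup ↥H, M.map π = ⊤ → M = ⊤
  · exact ⟨H, π, hm, hπ, hmin⟩
  push Not at hmin
  obtain ⟨M, hM, hne⟩ := hmin
  obtain ⟨e, -⟩ : ∃ e : ↥M ≃* ↥(M.map H.subtype), True :=
    ⟨M.equivMapOfInjective H.subtype H.subtype_injective, trivial⟩
  refine ih _ ?_ (M.map H.subtype) ((π.comp M.subtype).comp e.symm.toMonoidHom) (fun a => ?_) rfl
  · rw [← Nat.card_congr e.toEquiv, ← hn]
    exact lt_of_le_of_ne (Subgroup.card_le_card_group M) fun h => hne (Subgroup.eq_top_of_card_eq _ h)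
  · obtain ⟨x, hx, rfl⟩ : a ∈ M.map π := hM ▸ Subgroup.mem_top a
    exact ⟨e ⟨x, hx⟩, by simp⟩

variable {m : ℕ} {H : Type*} [Group H] {π : H →* alternatingGroup (Fin m)}

theorem MinCover.normal (hπ : MinCover π) {N : Subgroup H} (hN : N.Normal) : N ≤ π.ker ∨ N = ⊤ := by
  haveI : IsSimpleGroup (alternatingGroup (Fin m)) :=
    alternatingGroup.isSimpleGroup (by rw [Nat.card_fin]; have := hπ.deg; omega)
  rcases Subgroup.Normal.eq_bot_or_eq_top (hN.map π hπ.surj) with h | h
  · exact Or.inl ((Subgroup.map_eq_bot_iff N).mp h)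
  · exact Or.inr (hπ.min N h)

theorem MinCover.perfect (hπ : MinCover π) : commutator H = ⊤ := by
  refine hπ.min _ ?_
  rw [commutator_def, Subgroup.map_commutator, ← MonoidHom.range_eq_map, MonoidHom.range_eq_top.mpr hπ.surj,
    ← commutator_def, CfsgLib.Perm.AltSection.commutator_alt (by have := hπ.deg; omega)]

theorem MinCover.le_center_of_commutator (hπ : MinCover π) {N : Subgroup H}
    (h : ∀ a : H, ∀ x ∈ N, a * x * a⁻¹ * x⁻¹ ∈ Subgroup.center H) : N ≤ Subgroup.center H := by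
  have h1 : ⁅(⊤ : Subgroup H), N⁆ ≤ Subgroup.center H :=
    Subgroup.commutator_le.2 fun a _ x hx => h a x hx
  have h2 : ⁅⁅(⊤ : Subgroup H), N⁆, (⊤ : Subgroup H)⁆ = ⊥ := by
    rw [Subgroup.commutator_eq_bot_iff_le_centralizer, Subgroup.coe_top, Subgroup.centralizer_univ]
    exact h1
  have h3 : ⁅⁅N, (⊤ : Subgroup H)⁆, (⊤ : Subgroup H)⁆ = ⊥ := by rw [Subgroup.commutator_comm N]; exact h2
  have h4 := Subgroup.commutator_commutator_eq_bot_of_rotate h2 h3
  rw [← commutator_def, hπ.perfect, Subgroup.commutator_comm, Subgroup.commutator_eq_bot_iff_le_centralizer,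
    Subgroup.coe_top, Subgroup.centralizer_univ] at h4
  exact h4

/-- A non-central elementary abelian section has large rank. -/
theorem MinCover.section_bound [Finite H] (hπ : MinCover π) {l : ℕ} [Fact l.Prime] {N R : Subgroup H}
    (hN : N.Normal) (hR : R.Normal) (hRN : R ≤ N) (hRc : R ≤ Subgroup.center H)
    (hpow : ∀ x ∈ N, x ^ l ∈ R) (hcomm : ∀ x ∈ N, ∀ y ∈ N, x * y * x⁻¹ * y⁻¹ ∈ R)
    (hnc : ¬ N ≤ Subgroup.center H) : l ^ (m - 2) ≤ R.relIndex N := by
  classical
  have hl : l.Prime := Fact.out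
  obtain ⟨N', hN'⟩ : ∃ N' : Subgroup (H ⧸ R), N' = N.map (QuotientGroup.mk' R) := ⟨_, rfl⟩
  haveI : N'.Normal := hN' ▸ hN.map _ (QuotientGroup.mk'_surjective R)
  have hmem : ∀ z : ↥N', ∃ x ∈ N, QuotientGroup.mk' R x = (z : H ⧸ R) := fun z =>
    Subgroup.mem_map.1 ((SetLike.ext_iff.1 hN' _).1 z.2)
  have hcm : ∀ a b : ↥N', a * b = b * a := fun a b => by
    obtain ⟨x, hx, ex⟩ := hmem a
    obtain ⟨y, hy, ey⟩ := hmem b
    refine Subtype.ext ?_
    rw [Subgroup.coe_mul, Subgroup.coe_mul, ← ex, ← ey, ← mul_inv_eq_one, ← map_mul, ← map_mul, ← map_inv,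
      ← map_mul, QuotientGroup.mk'_apply, QuotientGroup.eq_one_iff, mul_inv_rev, ← mul_assoc]
    exact hcomm x hx y hy
  letI : CommGroup ↥N' := { (inferInstance : Group ↥N') with mul_comm := hcm }
  have hexp : ∀ z : ↥N', z ^ l = 1 := fun z => by
    obtain ⟨x, hx, ex⟩ := hmem z
    refine Subtype.ext ?_
    rw [Subgroup.coe_pow, ← ex, ← map_pow, QuotientGroup.mk'_apply, OneMemClass.coe_one,
      QuotientGroup.eq_one_iff]
    exact hpow x hx
  obtain ⟨α, hα⟩ : ∃ α : H →* MulAut ↥N', α = MulAut.conjNormal.comp (QuotientGroup.mk' R) := ⟨_, rfl⟩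
  obtain ⟨d, γ, hcardN, hker⟩ := exists_lin l hexp α
  have hcard : R.relIndex N = l ^ d := by
    have h := Subgroup.relIndex_ker (K := N) (QuotientGroup.mk' R)
    rw [QuotientGroup.ker_mk', ← hN'] at h
    rw [h, hcardN]
  have hnt : γ.ker ≤ π.ker := by
    refine (hπ.normal inferInstance).resolve_right fun htop => hnc (hπ.le_center_of_commutator fun a x hx => ?_)
    refine hRc ?_
    have h1 : α a = 1 := hker a (MonoidHom.mem_ker.1 (htop ▸ Subgroup.mem_top a))
    have h2 := congrArg Subtype.val (DFunLike.congr_fun h1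
      ⟨QuotientGroup.mk' R x, (SetLike.ext_iff.1 hN' _).2 ⟨x, hx, rfl⟩⟩)
    rw [hα] at h2
    simp only [MonoidHom.comp_apply, MulAut.conjNormal_apply, MulAut.one_apply] at h2
    rw [← mul_inv_eq_one] at h2
    exact (QuotientGroup.eq_one_iff _).1 h2
  obtain ⟨π', hπ'⟩ : ∃ π' : ↥γ.range →* alternatingGroup (Fin m), ∀ a, π' (γ.rangeRestrict a) = π a :=
    ⟨γ.rangeRestrict.liftOfSurjective γ.rangeRestrict_surjective ⟨π, by rwa [MonoidHom.ker_rangeRestrict]⟩,
      fun a => by simp [MonoidHom.liftOfRightInverse_comp_apply]⟩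
  have hsurj : Function.Surjective π' := fun z => by
    obtain ⟨a, rfl⟩ := hπ.surj z
    exact ⟨_, hπ' a⟩
  have hbd := Cfsg.Agent.S2653.result (F := ZMod l) l d m γ.range π'.ker
    ⟨QuotientGroup.quotientKerEquivOfSurjective π' hsurj⟩ (by have := hπ.deg; omega)
  rw [hcard]
  refine Nat.pow_le_pow_right hl.pos ?_
  split at hbd <;> omega

end CfsgLib.Known.AltE7
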