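import Cfsg.Agent.Lib.Lie.Chev.Data.CertE7
import Cfsg.Agent.Lib.Lie.Rel.OrderData

/-!
# The roots of type E7 in coordinates
-/

set_option autoImplicit false
set_option maxRecDepth 20000

namespace CfsgLib.Known.AltE7

open Cfsg.Lie (chevE7)
open CfsgLib.Lie.Chev

/-- The coordinates of the roots. -/
def rootTab : List (List ℤ) := [
  [-2, -2, -3, -4, -3, -2, -1], [-1, -2, -3, -4, -3, -2, -1], [-1, -2, -2, -4, -3, -2, -1], [-1, -2, -2, -3, -3, -2, -1],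
  [-1, -2, -2, -3, -2, -2, -1], [-1, -2, -2, -3, -2, -1, -1], [-1, -2, -2, -3, -2, -1, 0], [-1, -1, -2, -3, -3, -2, -1],
  [-1, -1, -2, -3, -2, -2, -1], [-1, -1, -2, -3, -2, -1, -1], [-1, -1, -2, -3, -2, -1, 0], [-1, -1, -2, -2, -2, -2, -1],
  [-1, -1, -2, -2, -2, -1, -1], [-1, -1, -2, -2, -2, -1, 0], [-1, -1, -2, -2, -1, -1, -1], [-1, -1, -2, -2, -1, -1, 0],
  [-1, -1, -2, -2, -1, 0, 0], [-1, -1, -1, -2, -2, -2, -1], [-1, -1, -1, -2, -2, -1, -1], [-1, -1, -1, -2, -2, -1, 0],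
  [-1, -1, -1, -2, -1, -1, -1], [-1, -1, -1, -2, -1, -1, 0], [-1, -1, -1, -2, -1, 0, 0], [-1, -1, -1, -1, -1, -1, -1],
  [-1, -1, -1, -1, -1, -1, 0], [-1, -1, -1, -1, -1, 0, 0], [-1, -1, -1, -1, 0, 0, 0], [-1, 0, -1, -1, -1, -1, -1],
  [-1, 0, -1, -1, -1, -1, 0], [-1, 0, -1, -1, -1, 0, 0], [-1, 0, -1, -1, 0, 0, 0], [-1, 0, -1, 0, 0, 0, 0],
  [-1, 0, 0, 0, 0, 0, 0], [0, -1, -1, -2, -2, -2, -1], [0, -1, -1, -2, -2, -1, -1], [0, -1, -1, -2, -2, -1, 0],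
  [0, -1, -1, -2, -1, -1, -1], [0, -1, -1, -2, -1, -1, 0], [0, -1, -1, -2, -1, 0, 0], [0, -1, -1, -1, -1, -1, -1],
  [0, -1, -1, -1, -1, -1, 0], [0, -1, -1, -1, -1, 0, 0], [0, -1, -1, -1, 0, 0, 0], [0, -1, 0, -1, -1, -1, -1],
  [0, -1, 0, -1, -1, -1, 0], [0, -1, 0, -1, -1, 0, 0], [0, -1, 0, -1, 0, 0, 0], [0, -1, 0, 0, 0, 0, 0],
  [0, 0, -1, -1, -1, -1, -1], [0, 0, -1, -1, -1, -1, 0], [0, 0, -1, -1, -1, 0, 0], [0, 0, -1, -1, 0, 0, 0],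
  [0, 0, -1, 0, 0, 0, 0], [0, 0, 0, -1, -1, -1, -1], [0, 0, 0, -1, -1, -1, 0], [0, 0, 0, -1, -1, 0, 0],
  [0, 0, 0, -1, 0, 0, 0], [0, 0, 0, 0, -1, -1, -1], [0, 0, 0, 0, -1, -1, 0], [0, 0, 0, 0, -1, 0, 0],
  [0, 0, 0, 0, 0, -1, -1], [0, 0, 0, 0, 0, -1, 0], [0, 0, 0, 0, 0, 0, -1], [0, 0, 0, 0, 0, 0, 1],
  [0, 0, 0, 0, 0, 1, 0], [0, 0, 0, 0, 0, 1, 1], [0, 0, 0, 0, 1, 0, 0], [0, 0, 0, 0, 1, 1, 0],
  [0, 0, 0, 0, 1, 1, 1], [0, 0, 0, 1, 0, 0, 0], [0, 0, 0, 1, 1, 0, 0], [0, 0, 0, 1, 1, 1, 0],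
  [0, 0, 0, 1, 1, 1, 1], [0, 0, 1, 0, 0, 0, 0], [0, 0, 1, 1, 0, 0, 0], [0, 0, 1, 1, 1, 0, 0],
  [0, 0, 1, 1, 1, 1, 0], [0, 0, 1, 1, 1, 1, 1], [0, 1, 0, 0, 0, 0, 0], [0, 1, 0, 1, 0, 0, 0],
  [0, 1, 0, 1, 1, 0, 0], [0, 1, 0, 1, 1, 1, 0], [0, 1, 0, 1, 1, 1, 1], [0, 1, 1, 1, 0, 0, 0],
  [0, 1, 1, 1, 1, 0, 0], [0, 1, 1, 1, 1, 1, 0], [0, 1, 1, 1, 1, 1, 1], [0, 1, 1, 2, 1, 0, 0],
  [0, 1, 1, 2, 1, 1, 0], [0, 1, 1, 2, 1, 1, 1], [0, 1, 1, 2, 2, 1, 0], [0, 1, 1, 2, 2, 1, 1],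
  [0, 1, 1, 2, 2, 2, 1], [1, 0, 0, 0, 0, 0, 0], [1, 0, 1, 0, 0, 0, 0], [1, 0, 1, 1, 0, 0, 0],
  [1, 0, 1, 1, 1, 0, 0], [1, 0, 1, 1, 1, 1, 0], [1, 0, 1, 1, 1, 1, 1], [1, 1, 1, 1, 0, 0, 0],
  [1, 1, 1, 1, 1, 0, 0], [1, 1, 1, 1, 1, 1, 0], [1, 1, 1, 1, 1, 1, 1], [1, 1, 1, 2, 1, 0, 0],
  [1, 1, 1, 2, 1, 1, 0], [1, 1, 1, 2, 1, 1, 1], [1, 1, 1, 2, 2, 1, 0], [1, 1, 1, 2, 2, 1, 1],
  [1, 1, 1, 2, 2, 2, 1], [1, 1, 2, 2, 1, 0, 0], [1, 1, 2, 2, 1, 1, 0], [1, 1, 2, 2, 1, 1, 1],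
  [1, 1, 2, 2, 2, 1, 0], [1, 1, 2, 2, 2, 1, 1], [1, 1, 2, 2, 2, 2, 1], [1, 1, 2, 3, 2, 1, 0],
  [1, 1, 2, 3, 2, 1, 1], [1, 1, 2, 3, 2, 2, 1], [1, 1, 2, 3, 3, 2, 1], [1, 2, 2, 3, 2, 1, 0],
  [1, 2, 2, 3, 2, 1, 1], [1, 2, 2, 3, 2, 2, 1], [1, 2, 2, 3, 3, 2, 1], [1, 2, 2, 4, 3, 2, 1],
  [1, 2, 3, 4, 3, 2, 1], [2, 2, 3, 4, 3, 2, 1]]

/-- The permutations of the roots by the simple reflections. -/
def wTab : List (List ℕ) := [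
  [1, 0, 2, 3, 4, 5, 6, 7, 8, 9, 10, 11, 12, 13, 14, 15, 16, 33, 34, 35, 36,
  37, 38, 39, 40, 41, 42, 48, 49, 50, 51, 52, 93, 17, 18, 19, 20, 21, 22, 23, 24, 25,
  26, 43, 44, 45, 46, 47, 27, 28, 29, 30, 31, 53, 54, 55, 56, 57, 58, 59, 60, 61, 62,
  63, 64, 65, 66, 67, 68, 69, 70, 71, 72, 94, 95, 96, 97, 98, 78, 79, 80, 81, 82, 99,
  100, 101, 102, 103, 104, 105, 106, 107, 108, 32, 73, 74, 75, 76, 77, 83, 84, 85, 86, 87, 88,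
  89, 90, 91, 92, 109, 110, 111, 112, 113, 114, 115, 116, 117, 118, 119, 120, 121, 122, 123, 125, 124],
  [0, 1, 2, 7, 8, 9, 10, 3, 4, 5, 6, 11, 12, 13, 14, 15, 16, 17, 18, 19, 20,
  21, 22, 27, 28, 29, 30, 23, 24, 25, 26, 31, 32, 33, 34, 35, 36, 37, 38, 48, 49, 50,
  51, 53, 54, 55, 56, 78, 39, 40, 41, 42, 52, 43, 44, 45, 46, 57, 58, 59, 60, 61, 62,
  63, 64, 65, 66, 67, 68, 79, 80, 81, 82, 73, 83, 84, 85, 86, 47, 69, 70, 71, 72, 74,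
  75, 76, 77, 87, 88, 89, 90, 91, 92, 93, 94, 99, 100, 101, 102, 95, 96, 97, 98, 103, 104,
  105, 106, 107, 108, 109, 110, 111, 112, 113, 114, 119, 120, 121, 122, 115, 116, 117, 118, 123, 124, 125],
  [0, 2, 1, 3, 4, 5, 6, 7, 8, 9, 10, 17, 18, 19, 20, 21, 22, 11, 12, 13, 14,
  15, 16, 23, 24, 25, 26, 27, 28, 29, 30, 32, 31, 33, 34, 35, 36, 37, 38, 43, 44, 45,
  46, 39, 40, 41, 42, 47, 53, 54, 55, 56, 73, 48, 49, 50, 51, 57, 58, 59, 60, 61, 62,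
  63, 64, 65, 66, 67, 68, 74, 75, 76, 77, 52, 69, 70, 71, 72, 78, 83, 84, 85, 86, 79,
  80, 81, 82, 87, 88, 89, 90, 91, 92, 94, 93, 95, 96, 97, 98, 99, 100, 101, 102, 109, 110,
  111, 112, 113, 114, 103, 104, 105, 106, 107, 108, 115, 116, 117, 118, 119, 120, 121, 122, 124, 123, 125],
  [0, 1, 3, 2, 4, 5, 6, 7, 11, 12, 13, 8, 9, 10, 14, 15, 16, 17, 18, 19, 23,
  24, 25, 20, 21, 22, 26, 27, 28, 29, 31, 30, 32, 33, 34, 35, 39, 40, 41, 36, 37, 38,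
  42, 43, 44, 45, 47, 46, 48, 49, 50, 52, 51, 57, 58, 59, 69, 53, 54, 55, 60, 61, 62,
  63, 64, 65, 70, 71, 72, 56, 66, 67, 68, 74, 73, 75, 76, 77, 79, 78, 80, 81, 82, 83,
  87, 88, 89, 84, 85, 86, 90, 91, 92, 93, 95, 94, 96, 97, 98, 99, 103, 104, 105, 100, 101,
  102, 106, 107, 108, 109, 110, 111, 115, 116, 117, 112, 113, 114, 118, 119, 120, 121, 123, 122, 124, 125],
  [0, 1, 2, 4, 3, 5, 6, 8, 7, 9, 10, 11, 14, 15, 12, 13, 16, 17, 20, 21, 18,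
  19, 22, 23, 24, 26, 25, 27, 28, 30, 29, 31, 32, 33, 36, 37, 34, 35, 38, 39, 40, 42,
  41, 43, 44, 46, 45, 47, 48, 49, 51, 50, 52, 53, 54, 56, 55, 60, 61, 66, 57, 58, 62,
  63, 67, 68, 59, 64, 65, 70, 69, 71, 72, 73, 75, 74, 76, 77, 78, 80, 79, 81, 82, 84,
  83, 85, 86, 87, 90, 91, 88, 89, 92, 93, 94, 96, 95, 97, 98, 100, 99, 101, 102, 103, 106,
  107, 104, 105, 108, 109, 112, 113, 110, 111, 114, 115, 116, 118, 117, 119, 120, 122, 121, 123, 124, 125],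
  [0, 1, 2, 3, 5, 4, 6, 7, 9, 8, 10, 12, 11, 13, 14, 16, 15, 18, 17, 19, 20,
  22, 21, 23, 25, 24, 26, 27, 29, 28, 30, 31, 32, 34, 33, 35, 36, 38, 37, 39, 41, 40,
  42, 43, 45, 44, 46, 47, 48, 50, 49, 51, 52, 53, 55, 54, 56, 57, 59, 58, 62, 64, 60,
  65, 61, 63, 67, 66, 68, 69, 71, 70, 72, 73, 74, 76, 75, 77, 78, 79, 81, 80, 82, 83,
  85, 84, 86, 88, 87, 89, 90, 92, 91, 93, 94, 95, 97, 96, 98, 99, 101, 100, 102, 104, 103,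
  105, 106, 108, 107, 110, 109, 111, 112, 114, 113, 115, 117, 116, 118, 119, 121, 120, 122, 123, 124, 125],
  [0, 1, 2, 3, 4, 6, 5, 7, 8, 10, 9, 11, 13, 12, 15, 14, 16, 17, 19, 18, 21,
  20, 22, 24, 23, 25, 26, 28, 27, 29, 30, 31, 32, 33, 35, 34, 37, 36, 38, 40, 39, 41,
  42, 44, 43, 45, 46, 47, 49, 48, 50, 51, 52, 54, 53, 55, 56, 58, 57, 59, 61, 60, 63,
  62, 65, 64, 66, 68, 67, 69, 70, 72, 71, 73, 74, 75, 77, 76, 78, 79, 80, 82, 81, 83,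
  84, 86, 85, 87, 89, 88, 91, 90, 92, 93, 94, 95, 96, 98, 97, 99, 100, 102, 101, 103, 105,
  104, 107, 106, 108, 109, 111, 110, 113, 112, 114, 116, 115, 117, 118, 120, 119, 121, 122, 123, 124, 125]]

theorem rootTab_ok : chevE7.nroots = 126 ∧ chevE7.rank = 7 ∧
    ∀ r < 126, ∀ j < 7, auxE7.coef j r = (rootTab.getD r []).getD j 0 := by decide +kernel

theorem wTab_perm : ∀ i < 7, (wTab.getD i []).Perm (List.range 126) := by decide +kernel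

theorem wTab_ok : ∀ i < 7, ∀ r < 126, ∀ j < 7, (rootTab.getD ((wTab.getD i []).getD r 0) []).getD j 0 =
    (rootTab.getD r []).getD j 0 - if j = i then
      ((List.range 7).map fun k => (rootTab.getD r []).getD k 0 * (cartE7.getD i []).getD k 0).sum else 0 := by
  decide +kernel

end CfsgLib.Known.AltE7
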