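import Cfsg.Agent.Lib.Known.AltE7.Triples

/-!
# Elementary abelian subgroups of the alternating groups of degree fourteen and fifteen with their normalising elements
-/

set_option autoImplicit false
set_option maxRecDepth 20000
set_option maxHeartbeats 1000000

namespace CfsgLib.Known.AltE7

/-- An even permutation as an element of the alternating group. -/
def alt {m : ℕ} (a : Equiv.Perm (Fin m)) (h : Equiv.Perm.sign a = 1) : alternatingGroup (Fin m) :=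
  ⟨a, Equiv.Perm.mem_alternatingGroup.2 h⟩

/-- The action of a matrix on weights. -/
def actf (l : ℕ) [NeZero l] {n : ℕ} (v : Fin n → Fin n → ℕ) (lam : Fin n → Fin l) : Fin n → Fin l :=
  fun i => Fin.ofNat l (∑ j, (lam j : ℕ) * v i j)

/-- The weights reached in some steps. -/
def reach {α : Type*} [DecidableEq α] (fs : List (α → α)) : ℕ → List α → List α
  | 0, L => L
  | k + 1, L => reach fs k (L ++ L.flatMap fun x => fs.map fun f => f x).dedup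

theorem reach_induction {α : Type*} [DecidableEq α] {P : α → Prop} (fs : List (α → α))
    (hf : ∀ f ∈ fs, ∀ x, P x → P (f x)) : ∀ (k : ℕ) (L : List α), (∀ x ∈ L, P x) → ∀ x ∈ reach fs k L, P x
  | 0, _, hL => hL
  | k + 1, L, hL => reach_induction fs hf k _ fun x hx => by
    rcases List.mem_append.1 (List.mem_dedup.1 hx) with h | h
    · exact hL x h
    · obtain ⟨y, hy, h⟩ := List.mem_flatMap.1 h
      obtain ⟨f, hf', rfl⟩ := List.mem_map.1 h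
      exact hf f hf' y (hL y hy)

/-- 2 disjoint cycles of length 7. -/
def t7 : Fin 2 → alternatingGroup (Fin 14) :=
  ![alt ⟨![1, 2, 3, 4, 5, 6, 0, 7, 8, 9, 10, 11, 12, 13], ![6, 0, 1, 2, 3, 4, 5, 7, 8, 9, 10, 11, 12, 13], by decide +kernel, by decide +kernel⟩ (by decide +kernel),
    alt ⟨![0, 1, 2, 3, 4, 5, 6, 8, 9, 10, 11, 12, 13, 7], ![0, 1, 2, 3, 4, 5, 6, 13, 7, 8, 9, 10, 11, 12], by decide +kernel, by decide +kernel⟩ (by decide +kernel)]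

/-- Normalising elements, their matrices and the inverse matrices. -/
def gens7 : List (alternatingGroup (Fin 14) × (Fin 2 → Fin 2 → ℕ) × (Fin 2 → Fin 2 → ℕ)) :=
  [(alt ⟨![0, 5, 3, 1, 6, 4, 2, 7, 12, 10, 8, 13, 11, 9], ![0, 3, 6, 2, 5, 1, 4, 7, 10, 13, 9, 12, 8, 11], by decide +kernel, by decide +kernel⟩ (by decide +kernel),
    ![![3, 0], ![0, 3]], ![![5, 0], ![0, 5]]),
   (alt ⟨![0, 4, 1, 5, 2, 6, 3, 7, 8, 9, 10, 11, 12, 13], ![0, 2, 4, 6, 1, 3, 5, 7, 8, 9, 10, 11, 12, 13], by decide +kernel, by decide +kernel⟩ (by decide +kernel),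
    ![![2, 0], ![0, 1]], ![![4, 0], ![0, 1]]),
   (alt ⟨![7, 8, 9, 10, 11, 12, 13, 0, 5, 3, 1, 6, 4, 2], ![7, 10, 13, 9, 12, 8, 11, 0, 1, 2, 3, 4, 5, 6], by decide +kernel, by decide +kernel⟩ (by decide +kernel),
    ![![0, 3], ![1, 0]], ![![0, 1], ![5, 0]])]

theorem t7_facts : (∀ i, t7 i ^ 7 = 1) ∧ (∀ i j, t7 i * t7 j = t7 j * t7 i) := by decide +kernel

theorem t7_val : ∀ (v : Fin 2 → Fin 7) (i : Fin 2),
    ((List.ofFn fun i => t7 i ^ (v i : ℕ)).prod : alternatingGroup (Fin 14)).1 (Fin.ofNat 14 (7 * i)) =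
      Fin.ofNat 14 (7 * i + v i) := by decide +kernel

theorem t7_inj : Function.Injective fun v : Fin 2 → Fin 7 => (List.ofFn fun i => t7 i ^ (v i : ℕ)).prod := by
  intro v w h
  funext i
  have h1 := t7_val v i
  simp only [] at h
  rw [h, t7_val w i] at h1
  have key : ∀ (i : Fin 2) (x y : Fin 7),
      (Fin.ofNat 14 (7 * i + x) : Fin 14) = Fin.ofNat 14 (7 * i + y) → x = y := by decide +kernel
  exact (key i _ _ h1).symm

theorem gens7_ok : (∀ g ∈ gens7, ∀ i, g.1⁻¹ * t7 i * g.1 = (List.ofFn fun j => t7 j ^ g.2.1 i j).prod) ∧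
    (∀ g ∈ gens7, ∀ lam, actf 7 g.2.2 (actf 7 g.2.1 lam) = lam ∧ cls7 (actf 7 g.2.1 lam) = cls7 lam) ∧
    (∀ lam, lam ∈ reach (gens7.map fun g => actf 7 g.2.1) 6 [![0, 0], ![1, 0], ![1, 1]]) ∧
    (∀ k : Fin 7, k ≠ 0 → ∀ lam, cls7 (fun i => k * lam i) = cls7 lam) ∧
    (∀ lam, cls7 lam = 0 ↔ lam = 0) := by
  refine ⟨?_, ?_, ?_, ?_, ?_⟩ <;> decide +kernel

/-- 3 disjoint cycles of length 5. -/
def t5 : Fin 3 → alternatingGroup (Fin 15) :=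
  ![alt ⟨![1, 2, 3, 4, 0, 5, 6, 7, 8, 9, 10, 11, 12, 13, 14], ![4, 0, 1, 2, 3, 5, 6, 7, 8, 9, 10, 11, 12, 13, 14], by decide +kernel, by decide +kernel⟩ (by decide +kernel),
    alt ⟨![0, 1, 2, 3, 4, 6, 7, 8, 9, 5, 10, 11, 12, 13, 14], ![0, 1, 2, 3, 4, 9, 5, 6, 7, 8, 10, 11, 12, 13, 14], by decide +kernel, by decide +kernel⟩ (by decide +kernel),
    alt ⟨![0, 1, 2, 3, 4, 5, 6, 7, 8, 9, 11, 12, 13, 14, 10], ![0, 1, 2, 3, 4, 5, 6, 7, 8, 9, 14, 10, 11, 12, 13], by decide +kernel, by decide +kernel⟩ (by decide +kernel)]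

/-- Normalising elements, their matrices and the inverse matrices. -/
def gens5 : List (alternatingGroup (Fin 15) × (Fin 3 → Fin 3 → ℕ) × (Fin 3 → Fin 3 → ℕ)) :=
  [(alt ⟨![0, 3, 1, 4, 2, 5, 8, 6, 9, 7, 10, 11, 12, 13, 14], ![0, 2, 4, 1, 3, 5, 7, 9, 6, 8, 10, 11, 12, 13, 14], by decide +kernel, by decide +kernel⟩ (by decide +kernel),
    ![![2, 0, 0], ![0, 2, 0], ![0, 0, 1]], ![![3, 0, 0], ![0, 3, 0], ![0, 0, 1]]),
   (alt ⟨![0, 3, 1, 4, 2, 5, 6, 7, 8, 9, 10, 13, 11, 14, 12], ![0, 2, 4, 1, 3, 5, 6, 7, 8, 9, 10, 12, 14, 11, 13], by decide +kernel, by decide +kernel⟩ (by decide +kernel),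
    ![![2, 0, 0], ![0, 1, 0], ![0, 0, 2]], ![![3, 0, 0], ![0, 1, 0], ![0, 0, 3]]),
   (alt ⟨![0, 4, 3, 2, 1, 5, 6, 7, 8, 9, 10, 11, 12, 13, 14], ![0, 4, 3, 2, 1, 5, 6, 7, 8, 9, 10, 11, 12, 13, 14], by decide +kernel, by decide +kernel⟩ (by decide +kernel),
    ![![4, 0, 0], ![0, 1, 0], ![0, 0, 1]], ![![4, 0, 0], ![0, 1, 0], ![0, 0, 1]]),
   (alt ⟨![10, 11, 12, 13, 14, 0, 1, 2, 3, 4, 5, 6, 7, 8, 9], ![5, 6, 7, 8, 9, 10, 11, 12, 13, 14, 0, 1, 2, 3, 4], by decide +kernel, by decide +kernel⟩ (by decide +kernel),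
    ![![0, 1, 0], ![0, 0, 1], ![1, 0, 0]], ![![0, 0, 1], ![1, 0, 0], ![0, 1, 0]]),
   (alt ⟨![5, 6, 7, 8, 9, 0, 1, 2, 3, 4, 10, 13, 11, 14, 12], ![5, 6, 7, 8, 9, 0, 1, 2, 3, 4, 10, 12, 14, 11, 13], by decide +kernel, by decide +kernel⟩ (by decide +kernel),
    ![![0, 1, 0], ![1, 0, 0], ![0, 0, 2]], ![![0, 1, 0], ![1, 0, 0], ![0, 0, 3]])]

theorem t5_facts : (∀ i, t5 i ^ 5 = 1) ∧ (∀ i j, t5 i * t5 j = t5 j * t5 i) := by decide +kernel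

theorem t5_val : ∀ (v : Fin 3 → Fin 5) (i : Fin 3),
    ((List.ofFn fun i => t5 i ^ (v i : ℕ)).prod : alternatingGroup (Fin 15)).1 (Fin.ofNat 15 (5 * i)) =
      Fin.ofNat 15 (5 * i + v i) := by decide +kernel

theorem t5_inj : Function.Injective fun v : Fin 3 → Fin 5 => (List.ofFn fun i => t5 i ^ (v i : ℕ)).prod := by
  intro v w h
  funext i
  have h1 := t5_val v i
  simp only [] at h
  rw [h, t5_val w i] at h1
  have key : ∀ (i : Fin 3) (x y : Fin 5),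
      (Fin.ofNat 15 (5 * i + x) : Fin 15) = Fin.ofNat 15 (5 * i + y) → x = y := by decide +kernel
  exact (key i _ _ h1).symm

theorem gens5_ok : (∀ g ∈ gens5, ∀ i, g.1⁻¹ * t5 i * g.1 = (List.ofFn fun j => t5 j ^ g.2.1 i j).prod) ∧
    (∀ g ∈ gens5, ∀ lam, actf 5 g.2.2 (actf 5 g.2.1 lam) = lam ∧ cls5 (actf 5 g.2.1 lam) = cls5 lam) ∧
    (∀ lam, lam ∈ reach (gens5.map fun g => actf 5 g.2.1) 5 [![0, 0, 0], ![1, 0, 0], ![1, 1, 0], ![1, 1, 1]]) ∧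
    (∀ k : Fin 5, k ≠ 0 → ∀ lam, cls5 (fun i => k * lam i) = cls5 lam) ∧
    (∀ lam, cls5 lam = 0 ↔ lam = 0) := by
  refine ⟨?_, ?_, ?_, ?_, ?_⟩ <;> decide +kernel

/-- An element scaling the cycles. -/
def scal7 : alternatingGroup (Fin 14) :=
  alt ⟨![0, 5, 3, 1, 6, 4, 2, 7, 12, 10, 8, 13, 11, 9], ![0, 3, 6, 2, 5, 1, 4, 7, 10, 13, 9, 12, 8, 11], by decide +kernel, by decide +kernel⟩ (by decide +kernel)

theorem scal7_ok : (∀ i, scal7⁻¹ * t7 i * scal7 = t7 i ^ ((![3, 3] : Fin 2 → ℕ) i)) ∧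
    ∀ i j : Fin 2, i ≠ j → (![3, 3] : Fin 2 → ℕ) i * (![3, 3] : Fin 2 → ℕ) j % 7 ≠ 1 := by decide +kernel

/-- An element scaling the cycles. -/
def scal5 : alternatingGroup (Fin 15) :=
  alt ⟨![0, 3, 1, 4, 2, 5, 8, 6, 9, 7, 10, 14, 13, 12, 11], ![0, 2, 4, 1, 3, 5, 7, 9, 6, 8, 10, 14, 13, 12, 11], by decide +kernel, by decide +kernel⟩ (by decide +kernel)

theorem scal5_ok : (∀ i, scal5⁻¹ * t5 i * scal5 = t5 i ^ ((![2, 2, 4] : Fin 3 → ℕ) i)) ∧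
    ∀ i j : Fin 3, i ≠ j → (![2, 2, 4] : Fin 3 → ℕ) i * (![2, 2, 4] : Fin 3 → ℕ) j % 5 ≠ 1 := by decide +kernel

end CfsgLib.Known.AltE7
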