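import Cfsg.Agent.Lib.Known.AltTorus.Lift

/-!
# Exact lifts of elementary abelian subgroups
-/

set_option autoImplicit false

namespace CfsgLib.Known.AltE7

variable {H A : Type*} [Group H] [Finite H] [Group A] {π : H →* A} {l : ℕ} [Fact l.Prime] {n : ℕ}

/-- Without kernel elements of prime power order an elementary abelian group lifts with its normalising elements. -/
theorem exists_exact_lifts (hπ : Function.Surjective π)
    (hker : ∀ x ∈ π.ker, ∀ j : ℕ, x ^ (l ^ j) = 1 → x = 1) (t : Fin n → A) (hpow : ∀ i, t i ^ l = 1)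
    (hcomm : ∀ i j, t i * t j = t j * t i) :
    ∃ s : Fin n → H, (∀ i, π (s i) = t i) ∧ (∀ i, s i ^ l = 1) ∧ (∀ i j, s i * s j = s j * s i) ∧
      ∀ (a : A) (v : Fin n → Fin n → ℕ), (∀ i, a⁻¹ * t i * a = (List.ofFn fun j => t j ^ v i j).prod) →
        ∃ y : H, ∀ i, y⁻¹ * s i * y = (List.ofFn fun j => s j ^ v i j).prod := by
  classical
  obtain ⟨P, hP⟩ : ∃ P : Subgroup A, P = Subgroup.closure (Set.range t) := ⟨_, rfl⟩
  have htP : ∀ i, t i ∈ P := fun i => hP ▸ Subgroup.subset_closure ⟨i, rfl⟩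
  have hPc : ∀ x ∈ P, ∀ y ∈ P, x * y = y * x := by
    intro x hx y hy
    haveI := Subgroup.isMulCommutative_closure (k := Set.range t) (by
      rintro _ ⟨i, rfl⟩ _ ⟨j, rfl⟩; exact hcomm i j)
    exact congrArg Subtype.val
      (mul_comm' (⟨x, hP ▸ hx⟩ : Subgroup.closure (Set.range t)) ⟨y, hP ▸ hy⟩)
  have hPl : ∀ x ∈ P, x ^ l = 1 := by
    intro x hx
    have hx' := hx
    rw [hP] at hx'
    induction hx' using Subgroup.closure_induction with
    | mem z hz => obtain ⟨i, rfl⟩ := hz; exact hpow i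
    | one => exact one_pow _
    | mul u v hu hv ihu ihv =>
      rw [(show Commute u v from hPc u (hP ▸ hu) v (hP ▸ hv)).mul_pow, ihu (hP ▸ hu), ihv (hP ▸ hv), mul_one]
    | inv u hu ihu => rw [inv_pow, ihu (hP ▸ hu), inv_one]
  obtain ⟨S, hS, hmap, hlift⟩ := AltTorus.exists_lift hπ (P := P)
    (fun x => ⟨1, Subtype.ext (by rw [pow_one]; exact hPl _ x.2)⟩)
  have heq : ∀ x ∈ S, ∀ y ∈ S, π x = π y → x = y := fun x hx y hy e => by
    obtain ⟨j, hj⟩ := hS ⟨y⁻¹ * x, mul_mem (inv_mem hy) hx⟩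
    exact (inv_mul_eq_one.1 (hker (y⁻¹ * x) (MonoidHom.mem_ker.2 (by rw [map_mul, map_inv, e, inv_mul_cancel])) j
      (by simpa [Subtype.ext_iff] using hj))).symm
  have hex : ∀ i, ∃ s ∈ S, π s = t i := fun i => by
    obtain ⟨s, hs, e⟩ := hmap.symm ▸ htP i
    exact ⟨s, hs, e⟩
  choose s hsS hs using hex
  refine ⟨s, hs, fun i => heq _ (pow_mem (hsS i) l) _ (one_mem S) (by rw [map_pow, hs, hpow, map_one]),
    fun i j => heq _ (mul_mem (hsS i) (hsS j)) _ (mul_mem (hsS j) (hsS i))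
      (by rw [map_mul, map_mul, hs, hs, hcomm]), fun a v hav => ?_⟩
  have hinv : a⁻¹ ∈ Subgroup.normalizer (P : Set A) := by
    haveI : Finite A := Finite.of_surjective π hπ
    refine Subgroup.mem_normalizer_fintype fun x hx => ?_
    show a⁻¹ * x * a⁻¹⁻¹ ∈ P
    rw [inv_inv]
    rw [SetLike.mem_coe, hP] at hx
    induction hx using Subgroup.closure_induction with
    | mem z hz =>
      obtain ⟨i, rfl⟩ := hz
      rw [hav]
      refine Subgroup.list_prod_mem _ fun w hw => ?_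
      obtain ⟨j, rfl⟩ := List.mem_ofFn.1 hw
      exact pow_mem (htP j) _
    | one => simp
    | mul u w _ _ hu hw => simpa [mul_assoc] using mul_mem hu hw
    | inv u _ hu => simpa [mul_assoc] using inv_mem hu
  obtain ⟨y, hy, hya⟩ := hlift a (by simpa using inv_mem hinv)
  refine ⟨y, fun i => heq _ (by simpa using (Subgroup.mem_normalizer_iff.1 (inv_mem hy) (s i)).1 (hsS i)) _
    (Subgroup.list_prod_mem _ fun w hw => by
      obtain ⟨j, rfl⟩ := List.mem_ofFn.1 hw
      exact pow_mem (hsS j) _) ?_⟩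
  rw [map_mul, map_mul, map_inv, hya, hs, hav, map_list_prod, List.map_ofFn]
  exact congrArg (fun f => (List.ofFn f).prod) (funext fun j => by simp [hs])

end CfsgLib.Known.AltE7
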