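import Cfsg.Agent.Lib.Known.AltE7.Data

/-!
# Integral points in the fundamental alcove of type E7
-/

set_option autoImplicit false
set_option maxRecDepth 20000

namespace CfsgLib.Known.AltE7

/-- A coordinate of a root. -/
def co (r j : ℕ) : ℤ := (rootTab.getD r []).getD j 0

/-- The value of a root at a point. -/
def vz (r : ℕ) (X : Fin 7 → ℤ) : ℤ := ∑ j : Fin 7, co r j * X j

/-- A simple reflection. -/
def sact (i : Fin 7) (X : Fin 7 → ℤ) : Fin 7 → ℤ :=
  fun k => X k - (Lie.Chev.cartE7.getD i []).getD k 0 * X i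

/-- The image of a root under a simple reflection. -/
def wr (i r : ℕ) : ℕ := (wTab.getD i []).getD r 0

theorem co_wr (i : Fin 7) {r : ℕ} (hr : r < 126) (j : Fin 7) :
    co (wr i r) j = co r j - if (j : ℕ) = i then ∑ k : Fin 7, co r k * (Lie.Chev.cartE7.getD i []).getD k 0 else 0 := by
  have h := wTab_ok i i.2 r hr j j.2
  rw [co, wr, h, co]
  congr 1

theorem vz_sact (i : Fin 7) {r : ℕ} (hr : r < 126) (X : Fin 7 → ℤ) : vz r (sact i X) = vz (wr i r) X := by
  simp only [vz, sact, co_wr i hr, sub_mul, mul_sub, Finset.sum_sub_distrib, ite_mul, zero_mul]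
  congr 1
  rw [Finset.sum_eq_single i (fun j _ hj => if_neg fun e => hj (Fin.ext e)) (by simp), if_pos rfl,
    Finset.sum_mul]
  exact Finset.sum_congr rfl fun j _ => by ring

theorem wr_perm (i : Fin 7) : ((List.range 126).map (wr i)).Perm (List.range 126) := by
  have h := wTab_perm i i.2
  have hl : (wTab.getD i []).length = 126 := h.length_eq.trans List.length_range
  generalize hT : wTab.getD (i : ℕ) [] = T at h hl
  refine (List.Perm.of_eq (List.ext_getElem (by simp [hl]) fun r h1 h2 => ?_)).trans h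
  rw [List.getElem_map, List.getElem_range, wr, hT, List.getD_eq_getElem _ _ h2]

/-- Functions of the values are invariant under the reflections. -/
theorem map_sact (i : Fin 7) {β : Type*} (f : ℕ → β) :
    ((List.range 126).map fun r => f (wr i r)).Perm ((List.range 126).map f) := by
  have h := (wr_perm i).map f
  rwa [List.map_map] at h

/-- The quadratic form. -/
def qf (X : Fin 7 → ℤ) : ℤ := ((List.range 126).map fun r => vz r X * vz r X).sum

/-- The sum of the positive roots. -/
def pf (X : Fin 7 → ℤ) : ℤ := ((List.range 126).map fun r => if 63 ≤ r then vz r X else 0).sum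

theorem qf_sact (i : Fin 7) (X : Fin 7 → ℤ) : qf (sact i X) = qf X := by
  refine Eq.trans (congrArg List.sum (List.map_congr_left fun r hr => ?_))
    (map_sact i fun r => vz r X * vz r X).sum_eq
  rw [vz_sact i (List.mem_range.1 hr)]

theorem pf_eq : ∀ j : Fin 7, ((List.range 126).map fun r => if 63 ≤ r then co r j else 0).sum =
    ([34, 49, 66, 96, 75, 52, 27] : List ℤ).getD j 0 := by decide +kernel

theorem list_sum_comm {α : Type*} (l : List α) (f : α → Fin 7 → ℤ) :
    (l.map fun a => ∑ j, f a j).sum = ∑ j, (l.map fun a => f a j).sum := by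
  induction l with
  | nil => simp
  | cons a l ih => simp [ih, Finset.sum_add_distrib]

theorem pf_val (X : Fin 7 → ℤ) :
    pf X = 34 * X 0 + 49 * X 1 + 66 * X 2 + 96 * X 3 + 75 * X 4 + 52 * X 5 + 27 * X 6 := by
  have h : pf X = ∑ j : Fin 7, ((List.range 126).map fun r => if 63 ≤ r then co r j else 0).sum * X j := by
    rw [pf]
    refine Eq.trans (congrArg List.sum (List.map_congr_left fun r _ =>
      (?_ : _ = ∑ j : Fin 7, (if 63 ≤ r then co r j else 0) * X j))) ?_
    · split <;> simp [vz]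
    · rw [list_sum_comm]
      exact Finset.sum_congr rfl fun j _ => (List.sum_map_mul_right ..)
  rw [h]
  simp only [pf_eq, Fin.sum_univ_seven]
  simp

theorem cart_facts : ∀ i : Fin 7,
    ([34, 49, 66, 96, 75, 52, 27] : List ℤ).getD i 0 ≥ 0 ∧
      ∑ k : Fin 7, ([34, 49, 66, 96, 75, 52, 27] : List ℤ).getD k 0 * (Lie.Chev.cartE7.getD i []).getD k 0 = 2 := by
  decide +kernel

theorem pf_sact (i : Fin 7) (X : Fin 7 → ℤ) : pf (sact i X) = pf X - 2 * X i := by
  rw [← (cart_facts i).2, Finset.sum_mul, pf_val, pf_val, Fin.sum_univ_seven]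
  simp [sact]
  ring

theorem pf_le (X : Fin 7 → ℤ) : pf X ≤ qf X := by
  refine List.sum_le_sum fun r _ => ?_
  split
  · nlinarith [Int.le_self_sq (vz r X), pow_two (vz r X)]
  · exact mul_self_nonneg _

/-- Translation by the coroot of the highest root. -/
def tact (l : ℕ) (X : Fin 7 → ℤ) : Fin 7 → ℤ := fun k => X k - if k = 0 then (l : ℤ) else 0

theorem qf_theta : (∀ j : Fin 7, ((List.range 126).map fun r => co r 0 * co r j).sum =
    36 * ([2, 2, 3, 4, 3, 2, 1] : List ℤ).getD j 0) := by decide +kernel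

theorem qf_tact (l : ℕ) (X : Fin 7 → ℤ) :
    qf (tact l X) = qf X - 72 * l *
      (2 * X 0 + 2 * X 1 + 3 * X 2 + 4 * X 3 + 3 * X 4 + 2 * X 5 + X 6) + 72 * l * l := by
  have hv : ∀ r, vz r (tact l X) = vz r X - co r 0 * l := fun r => by
    simp [vz, tact, Fin.sum_univ_seven]; ring
  have h1 : ((List.range 126).map fun r => co r 0 * vz r X).sum =
      ∑ j : Fin 7, ((List.range 126).map fun r => co r 0 * co r j).sum * X j := by
    simp only [vz, Finset.mul_sum]
    rw [list_sum_comm]
    refine Finset.sum_congr rfl fun j _ => ?_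
    rw [← List.sum_map_mul_right]
    simp only [mul_assoc]
  simp only [qf_theta, Fin.sum_univ_seven] at h1
  have h0 := qf_theta 0
  simp only [Fin.val_zero] at h0
  have e : ∀ L : List ℕ, (L.map fun r => vz r (tact l X) * vz r (tact l X)).sum =
      (L.map fun r => vz r X * vz r X).sum - 2 * l * (L.map fun r => co r 0 * vz r X).sum +
        l * l * (L.map fun r => co r 0 * co r 0).sum := by
    intro L
    induction L with
    | nil => simp
    | cons r L ih => simp only [List.map_cons, List.sum_cons]; rw [ih, hv]; ring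
  rw [qf, e, h1, h0, qf]
  simp
  ring

/-- A set invariant under the reflections and the translation meets the alcove. -/
theorem exists_alcove {l : ℕ} (hl : 0 < l) (S : (Fin 7 → ℤ) → Prop) (hne : ∃ X, S X)
    (hw : ∀ X i, S X → S (sact i X)) (ht : ∀ X, S X → S (tact l X)) :
    ∃ X, S X ∧ (∀ j, 0 ≤ X j) ∧
      2 * X 0 + 2 * X 1 + 3 * X 2 + 4 * X 3 + 3 * X 4 + 2 * X 5 + X 6 ≤ l := by
  classical
  have hq : ∀ X, 0 ≤ qf X := fun X => List.sum_nonneg fun a ha => by
    obtain ⟨r, -, rfl⟩ := List.mem_map.1 ha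
    exact mul_self_nonneg _
  have h1 : ∃ n : ℕ, ∃ X, S X ∧ qf X = n := by
    obtain ⟨X, hX⟩ := hne
    exact ⟨(qf X).toNat, X, hX, by rw [Int.toNat_of_nonneg (hq X)]⟩
  obtain ⟨X₀, hX₀, hq₀⟩ := Nat.find_spec h1
  have hmin : ∀ X, S X → qf X₀ ≤ qf X := fun X hX => by
    have := Nat.find_min' h1 ⟨X, hX, by rw [Int.toNat_of_nonneg (hq X)]⟩
    have := hq X
    omega
  have h2 : ∃ n : ℕ, ∃ X, S X ∧ qf X = qf X₀ ∧ qf X₀ - pf X = n :=
    ⟨(qf X₀ - pf X₀).toNat, X₀, hX₀, rfl, by rw [Int.toNat_of_nonneg]; linarith [pf_le X₀]⟩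
  obtain ⟨X, hX, hqX, hpX⟩ := Nat.find_spec h2
  refine ⟨X, hX, fun j => ?_, ?_⟩
  · by_contra hneg
    have hle : pf (sact j X) ≤ qf X₀ := by
      have := pf_le (sact j X)
      rwa [qf_sact, hqX] at this
    have := Nat.find_min' h2 ⟨sact j X, hw X j hX, by rw [qf_sact, hqX],
      (Int.toNat_of_nonneg (sub_nonneg.2 hle)).symm⟩
    rw [pf_sact] at this hle
    omega
  · by_contra hgt
    have h := hmin _ (ht X hX)
    rw [qf_tact, hqX] at h
    have hl' : (0 : ℤ) < l := by exact_mod_cast hl
    nlinarith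

end CfsgLib.Known.AltE7
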