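import Cfsg.Agent.Lib.Known.AltE7.Kac

/-!
# The residues of the roots of type E7 at several points
-/

set_option autoImplicit false

namespace CfsgLib.Known.AltE7

variable {l : ℕ} [NeZero l]

/-- The residue of the value of a root. -/
def res (l : ℕ) [NeZero l] (v : ℤ) : Fin l :=
  ⟨(v % (l : ℤ)).toNat, by
    have h1 := Int.emod_nonneg v (Int.natCast_ne_zero.2 (NeZero.ne l))
    have h2 := Int.emod_lt_of_pos v (Int.natCast_pos.2 (Nat.pos_of_ne_zero (NeZero.ne l)))
    omega⟩

/-- The residues of all roots at several points. -/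
def vals (l : ℕ) [NeZero l] {n : ℕ} (X : Fin n → Fin 7 → ℤ) : List (Fin n → Fin l) :=
  (List.range 126).map fun r i => res l (vz r (X i))

theorem res_congr {v w : ℤ} (h : (v : ZMod l) = w) : res l v = res l w := by
  apply Fin.ext
  show (v % (l : ℤ)).toNat = (w % (l : ℤ)).toNat
  rw [((ZMod.intCast_eq_intCast_iff' v w l).1 h)]

theorem vals_sact {n : ℕ} (X : Fin n → Fin 7 → ℤ) (i : Fin 7) :
    (vals l fun k => sact i (X k)).Perm (vals l X) := by
  refine (List.Perm.of_eq (List.map_congr_left fun r hr => funext fun k => ?_)).trans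
    (map_sact i fun r k => res l (vz r (X k)))
  rw [vz_sact i (List.mem_range.1 hr)]

theorem res_tact (r : ℕ) (X : Fin 7 → ℤ) : res l (vz r (tact l X)) = res l (vz r X) := by
  refine res_congr ?_
  simp [vz, tact, Fin.sum_univ_seven]

/-- The first point can be moved into the alcove. -/
theorem exists_alcove_vals {n : ℕ} (X : Fin (n + 1) → Fin 7 → ℤ) :
    ∃ Y : Fin (n + 1) → Fin 7 → ℤ, (vals l Y).Perm (vals l X) ∧ (∀ j, 0 ≤ Y 0 j) ∧
      2 * Y 0 0 + 2 * Y 0 1 + 3 * Y 0 2 + 4 * Y 0 3 + 3 * Y 0 4 + 2 * Y 0 5 + Y 0 6 ≤ l := by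
  obtain ⟨Z, ⟨Y, hY, rfl⟩, h1, h2⟩ := exists_alcove (Nat.pos_of_ne_zero (NeZero.ne l))
    (fun Z => ∃ Y : Fin (n + 1) → Fin 7 → ℤ, (vals l Y).Perm (vals l X) ∧ Z = Y 0) ⟨X 0, X, List.Perm.refl _, rfl⟩
    (by
      rintro _ i ⟨Y, hY, rfl⟩
      exact ⟨fun k => sact i (Y k), (vals_sact Y i).trans hY, rfl⟩)
    (by
      rintro _ ⟨Y, hY, rfl⟩
      refine ⟨fun k => tact l (Y k), ?_, rfl⟩
      rwa [vals, List.map_congr_left fun r _ => funext fun k => res_tact r (Y k)])
  exact ⟨Y, hY, h1, h2⟩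

theorem count_map_eq_sum {α β : Type*} [Fintype α] [DecidableEq α] [DecidableEq β] (L : List α) (f : α → β)
    (b : β) : (L.map f).count b = ∑ a ∈ Finset.univ.filter (fun a => f a = b), L.count a := by
  induction L with
  | nil => simp
  | cons a L ih =>
    simp only [List.map_cons, List.count_cons, ih, Finset.sum_add_distrib, beq_iff_eq]
    congr 1
    rw [Finset.sum_ite_eq]
    simp

theorem length_eq_sum {α : Type*} [Fintype α] [DecidableEq α] (L : List α) : L.length = ∑ a, L.count a := by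
  induction L with
  | nil => simp
  | cons a L ih => simp [List.count_cons, Finset.sum_add_distrib, ← ih]

theorem length_vals {n : ℕ} (X : Fin n → Fin 7 → ℤ) : (vals l X).length = 126 := by simp [vals]

end CfsgLib.Known.AltE7
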