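import Cfsg.Agent.Lib.Known.AltE6.W
import Cfsg.Agent.Lib.Known.AltE6.Index
import Cfsg.Agent.Lib.Known.AltE6.Bound
import Cfsg.Agent.Lib.Known.AltE7.Values

/-!
# Subgroups of prime power order of the monomial group of type E7
-/

set_option autoImplicit false
set_option maxRecDepth 20000

namespace CfsgLib.Known.AltE7

open Cfsg.Lie (ChevalleyDatum chevE7)
open CfsgLib.Lie.Chev
open CfsgLib.Known.AltE6 (Table wq fins keyW card_torsion_le val_pow_sub_one qact_wq)

section WQ

variable {F : Type*} [Field F] {G : Type*} [Group G] (R : Rel chevE7 auxE7 F G)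

include R in
theorem finite_WQ : Finite R.WQ := Finite.of_injective _ R.qact_injective

theorem card_WQ_E7 : Nat.card R.WQ = 2903040 := by
  haveI := finite_WQ R
  haveI := Fintype.ofFinite R.WQ
  rw [Nat.card_eq_fintype_card, Lie.OddInvolution.card_WQ R cmat_E7]
  decide +kernel

/-- The words of an element of prime order. -/
def cycTable (n : ℕ) [NeZero n] (w : List ℕ) : Table chevE7 auxE7 n 1 where
  wd i := (List.range (i : ℕ)).flatMap fun _ => w
  gn _ := w
  nx i _ := i + 1
  par i := (i - 1, 0)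

/-- The word of an element of order seven. -/
def word7 : List ℕ := [0, 2, 3, 4, 5, 6]

/-- The word of an element of order five. -/
def word5 : List ℕ := [0, 2, 3, 4]

theorem cyc7_ok : (cycTable 7 word7).OK := ⟨by decide +kernel, by decide +kernel, by decide, by decide +kernel⟩

theorem cyc5_ok : (cycTable 5 word5).OK := ⟨by decide +kernel, by decide +kernel, by decide, by decide +kernel⟩

variable {l : ℕ} [Fact l.Prime]

theorem card_le_prime (hl : 5 ≤ l) {P : Subgroup R.WQ} (hP : IsPGroup l P) : Nat.card ↥P ≤ l := by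
  haveI := finite_WQ R
  have hp : l.Prime := Fact.out
  obtain ⟨k, hk⟩ := IsPGroup.iff_card.1 hP
  have hd : l ^ k ∣ 2903040 := hk ▸ card_WQ_E7 R ▸ Subgroup.card_subgroup_dvd_card P
  have hk1 : k ≤ 1 := by
    by_contra hk1
    have h2 : l ^ 2 ∣ 2903040 := (pow_dvd_pow l (by omega)).trans hd
    have hle : l ≤ 1703 := by
      have := Nat.le_of_dvd (by norm_num) h2
      nlinarith
    have : ∀ q < 1704, 5 ≤ q → q ^ 2 ∣ 2903040 → ¬ q.Prime := by
      intro q hq h5 hq2 hqp
      have h3 : q ∣ 2903040 := (dvd_pow_self q two_ne_zero).trans hq2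
      have h4 : q = 5 ∨ q = 7 := by
        have h6 : q ∣ 2 ^ 10 * (3 ^ 4 * (5 * 7)) := h3
        rcases hqp.dvd_mul.1 h6 with h | h
        · exact absurd (Nat.le_of_dvd two_pos (hqp.dvd_of_dvd_pow h)) (by omega)
        rcases hqp.dvd_mul.1 h with h | h
        · exact absurd (Nat.le_of_dvd (by norm_num) (hqp.dvd_of_dvd_pow h)) (by omega)
        rcases hqp.dvd_mul.1 h with h | h
        · exact Or.inl ((Nat.prime_dvd_prime_iff_eq hqp (by norm_num)).1 h)
        · exact Or.inr ((Nat.prime_dvd_prime_iff_eq hqp (by norm_num)).1 h)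
      rcases h4 with rfl | rfl <;> norm_num at hq2
    exact this l (by omega) hl h2 hp
  rw [hk]
  exact (Nat.pow_le_pow_right hp.pos hk1).trans (pow_one l).le

end WQ

section Index

variable (F : Type*) [Field F] [Fintype F]

theorem index_HS_mul : (chevRel certE7 F).HS.index * (Fintype.card F - 1) ^ 7 =
    Fintype.card F ^ 63 * ([2, 6, 8, 10, 12, 14, 18].map fun k => Fintype.card F ^ k - 1).prod := by
  haveI := (chevRel certE7 F).Finite_of_field
  have h := card_group certE7 F cmat_E7 smithE7 polyE7 rfl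
  have h2 := card_HS_mul certE7 F cmat_E7 smithE7
  rw [← Subgroup.card_mul_index (chevRel certE7 F).HS, ← mul_assoc, h2, mul_comm] at h
  exact h

theorem not_dvd_index_NS {l : ℕ} [Fact l.Prime] (h : l ∣ Fintype.card F - 1) (h2 : l ≠ 2) :
    ¬ l ∣ (chevRel certE7 F).NS.index := by
  haveI := (chevRel certE7 F).Finite_of_field
  have hl : l.Prime := Fact.out
  have hQ : 1 < Fintype.card F := Fintype.one_lt_card
  have hnQ : ¬ l ∣ Fintype.card F := fun hd => hl.not_dvd_one (by
    have := Nat.dvd_sub hd h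
    rwa [Nat.sub_sub_self hQ.le] at this)
  have hne : ∀ n, n ≠ 0 → Fintype.card F ^ n - 1 ≠ 0 := fun n hn => Nat.sub_ne_zero_of_lt (Nat.one_lt_pow hn hQ)
  intro hd
  have e := congrArg (padicValNat l) (index_HS_mul F)
  rw [← Subgroup.relIndex_mul_index (chevRel certE7 F).HS_le_NS,
    show (chevRel certE7 F).HS.relIndex (chevRel certE7 F).NS = 2903040 from card_WQ_E7 (chevRel certE7 F),
    padicValNat.mul (mul_ne_zero (by norm_num) Subgroup.index_ne_zero_of_finite) (pow_ne_zero _ (by omega)),
    padicValNat.mul (by norm_num) Subgroup.index_ne_zero_of_finite, padicValNat.pow,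
    padicValNat.mul (pow_ne_zero _ (by omega)) (List.prod_ne_zero (by simp [(hne 2 (by norm_num)).symm,
      (hne 6 (by norm_num)).symm, (hne 8 (by norm_num)).symm, (hne 10 (by norm_num)).symm,
      (hne 12 (by norm_num)).symm, (hne 14 (by norm_num)).symm, (hne 18 (by norm_num)).symm])),
    padicValNat.pow, padicValNat.eq_zero_of_not_dvd hnQ, mul_zero, zero_add] at e
  simp only [List.map_cons, List.map_nil, List.prod_cons, List.prod_nil, mul_one] at e
  have v := fun n (hn : n ≠ 0) => val_pow_sub_one hQ h (fun e => absurd e h2) hn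
  rw [padicValNat.mul (hne 2 (by norm_num)) (by simp [hne]), padicValNat.mul (hne 6 (by norm_num)) (by simp [hne]),
    padicValNat.mul (hne 8 (by norm_num)) (by simp [hne]), padicValNat.mul (hne 10 (by norm_num)) (by simp [hne]),
    padicValNat.mul (hne 12 (by norm_num)) (by simp [hne]), padicValNat.mul (hne 14 (by norm_num)) (hne 18 (by norm_num)),
    v 2 (by norm_num), v 6 (by norm_num), v 8 (by norm_num), v 10 (by norm_num), v 12 (by norm_num),
    v 14 (by norm_num), v 18 (by norm_num)] at e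
  rw [show (2903040 : ℕ) = 2 * (6 * (8 * (10 * (12 * (14 * 18))))) from rfl, padicValNat.mul (by norm_num) (by norm_num),
    padicValNat.mul (by norm_num) (by norm_num), padicValNat.mul (by norm_num) (by norm_num),
    padicValNat.mul (by norm_num) (by norm_num), padicValNat.mul (by norm_num) (by norm_num),
    padicValNat.mul (by norm_num) (by norm_num)] at e
  have h0 : padicValNat l (chevRel certE7 F).NS.index ≠ 0 := fun e0 => by
    rcases padicValNat.eq_zero_iff.1 e0 with h1 | h1 | h1
    · exact hl.ne_one h1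
    · exact Subgroup.index_ne_zero_of_finite h1
    · exact h1 hd
  omega

variable {F} {G : Type*} [Group G] (R : Rel chevE7 auxE7 F G)

/-- The torus has at most `l ^ 7` elements killed by `l`. -/
theorem card_HS_torsion (l : ℕ) [NeZero l] : Nat.card {t : ↥R.HS // t ^ l = 1} ≤ l ^ 7 := by
  classical
  letI := R.hsCommGroup
  haveI : Finite ↥R.HS := Finite.of_surjective R.torusHom R.torusHom_surjective
  refine le_trans (card_torsion_le l R.torusHom R.torusHom_surjective) ?_
  refine (Nat.card_le_card_of_injective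
    (fun c i => (⟨c.1 i, by rw [mem_rootsOfUnity]; exact congrFun (MonoidHom.mem_ker.1 c.2) i⟩ : rootsOfUnity l F))
    fun a b e => Subtype.ext (funext fun i => congrArg Subtype.val (congrFun e i))).trans ?_
  rw [Nat.card_fun, Nat.card_eq_fintype_card (α := Fin _), Fintype.card_fin]
  exact Nat.pow_le_pow_left (card_rootsOfUnity F l) 7

/-- A subgroup of prime power order is conjugate into the monomial group. -/
theorem exists_into_NS {l : ℕ} [Fact l.Prime] (h : l ∣ Fintype.card F - 1) (h2 : l ≠ 2) {H : Type*} [Group H]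
    (ψ : H →* ↥(chevE7.group F)) (hψ : Function.Injective ψ) (hH : IsPGroup l H) :
    ∃ (g : ↥(chevE7.group F)) (φ : H →* ↥(chevRel certE7 F).NS), Function.Injective φ ∧
      ∀ x, (φ x : ↥(chevE7.group F)) = g * ψ x * g⁻¹ := by
  haveI : Finite ↥(chevE7.group F) := (chevRel certE7 F).Finite_of_field
  obtain ⟨g, hg⟩ := AltTorus.exists_conj_into (not_dvd_index_NS F h h2)
    (S := ψ.range) (hH.of_surjective ψ.rangeRestrict ψ.rangeRestrict_surjective)
  obtain ⟨φ, hφ⟩ : ∃ φ : H →* ↥(chevRel certE7 F).NS, ∀ x, (φ x : ↥(chevE7.group F)) = g * ψ x * g⁻¹ :=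
    ⟨((MulAut.conj g).toMonoidHom.comp ψ).codRestrict _ fun x => hg _ ⟨x, rfl⟩, fun _ => rfl⟩
  exact ⟨g, φ, fun a b e => hψ (by
    have := congrArg Subtype.val e
    rw [hφ, hφ, mul_left_inj, mul_right_inj] at this
    exact this), hφ⟩

end Index

section Fixed

variable {F : Type*} [Field F] {G : Type*} [Group G] (R : Rel chevE7 auxE7 F G)

theorem word_rows : (keyW chevE7 auxE7 word7).map (fun r => (List.range 7).map (co r)) = [[0, 0, 1, 0, 0, 0, 0], [1, 1, 1, 1, 0, 0, 0], [0, 0, 0, 1, 0, 0, 0], [0, 0, 0, 0, 1, 0, 0], [0, 0, 0, 0, 0, 1, 0], [0, 0, 0, 0, 0, 0, 1], [-1, 0, -1, -1, -1, -1, -1]] ∧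
    (keyW chevE7 auxE7 word5).map (fun r => (List.range 7).map (co r)) = [[0, 0, 1, 0, 0, 0, 0], [1, 1, 1, 1, 0, 0, 0], [0, 0, 0, 1, 0, 0, 0], [0, 0, 0, 0, 1, 0, 0], [-1, 0, -1, -1, -1, 0, 0], [1, 0, 1, 1, 1, 1, 0], [0, 0, 0, 0, 0, 0, 1]] := by decide +kernel

end Fixed

end CfsgLib.Known.AltE7
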