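import Cfsg.Agent.Lib.Known.AltE7.Cover
import Cfsg.Agent.Lib.Known.AltE7.Weyl
import Cfsg.Agent.Lib.Known.AltE6.Lifts

/-!
# Odd prime power elements of the kernel of a minimal cover inside a group of type E7
-/

set_option autoImplicit false
set_option maxRecDepth 20000
set_option maxHeartbeats 1000000

namespace CfsgLib.Known.AltE7

open Cfsg.Lie (chevE7)
open CfsgLib.Lie.Chev
open CfsgLib.Known.AltE6 (card_ker_pow)

variable {F : Type*} [Field F] [Fintype F] {H : Type*} [Group H] [Finite H]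

/-- Normal subgroups of prime power order are central. -/
theorem le_center_of_normal_pGroup {l : ℕ} [Fact l.Prime] (h : l ∣ Fintype.card F - 1)
    (h5 : 5 ≤ l) {m : ℕ} {π : H →* alternatingGroup (Fin m)} (hπ : MinCover π) (hm : 14 ≤ m)
    (ψ : H →* ↥(chevE7.group F)) (hψ : Function.Injective ψ) (Q : Subgroup H) (hQn : Q.Normal)
    (hQ : IsPGroup l Q) : Q ≤ Subgroup.center H := by
  classical
  obtain ⟨N, hN⟩ : ∃ N, N = Nat.card Q := ⟨_, rfl⟩
  induction N using Nat.strong_induction_on generalizing Q with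
  | _ N ih =>
  subst hN
  haveI : Finite ↥(chevE7.group F) := (chevRel certE7 F).Finite_of_field
  haveI := finite_WQ (chevRel certE7 F)
  have hl : l.Prime := Fact.out
  have hsmall : ∀ Q' : Subgroup H, Q'.Normal → Q' < Q → Q' ≤ Subgroup.center H := fun Q' hn hlt =>
    ih _ (lt_of_le_of_ne (Subgroup.card_le_of_le hlt.le) fun e =>
      hlt.ne (Subgroup.eq_of_le_of_card_ge hlt.le e.ge)) Q' hn (hQ.to_le hlt.le) rfl
  by_contra hnc
  have hne : Q ≠ ⊥ := fun e => hnc (e ▸ bot_le)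
  -- the Frattini subgroup
  obtain ⟨s, hs⟩ : ∃ s : Set H,
      s = {z | (∃ x ∈ Q, x ^ l = z) ∨ ∃ x ∈ Q, ∃ y ∈ Q, x * y * x⁻¹ * y⁻¹ = z} := ⟨_, rfl⟩
  obtain ⟨Q1, hQ1⟩ : ∃ Q1, Q1 = Subgroup.normalClosure s := ⟨_, rfl⟩
  have hQ1n : Q1.Normal := hQ1 ▸ Subgroup.normalClosure_normal
  have hpow : ∀ x ∈ Q, x ^ l ∈ Q1 := fun x hx => hQ1 ▸ Subgroup.subset_normalClosure (hs ▸ Or.inl ⟨x, hx, rfl⟩)
  have hcomm : ∀ x ∈ Q, ∀ y ∈ Q, x * y * x⁻¹ * y⁻¹ ∈ Q1 := fun x hx y hy =>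
    hQ1 ▸ Subgroup.subset_normalClosure (hs ▸ Or.inr ⟨x, hx, y, hy, rfl⟩)
  obtain ⟨M, hMn, hMidx⟩ : ∃ M : Subgroup ↥Q, M.Normal ∧ M.index = l := by
    obtain ⟨n, hn⟩ := IsPGroup.iff_card.1 hQ
    have hn0 : n ≠ 0 := fun e => hne (Subgroup.eq_bot_of_card_eq _ (by rw [hn, e, pow_zero]))
    obtain ⟨M, hM⟩ := Sylow.exists_subgroup_card_pow_prime l (G := ↥Q) (n := n - 1)
      (hn ▸ pow_dvd_pow l (Nat.sub_le _ _))
    have hidx : M.index = l := by
      have e := M.card_mul_index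
      rw [hM, hn, show l ^ n = l ^ (n - 1) * l by rw [← pow_succ, Nat.sub_add_cancel (Nat.pos_of_ne_zero hn0)]] at e
      exact Nat.eq_of_mul_eq_mul_left (pow_pos hl.pos _) e
    exact ⟨M, Subgroup.normal_of_index_eq_minFac_card (by rw [hidx, hn, hl.pow_minFac hn0]), hidx⟩
  have hQ1M : Q1 ≤ M.map Q.subtype := by
    haveI := hMn
    have hcard : Nat.card (↥Q ⧸ M) = l := hMidx
    haveI : IsCyclic (↥Q ⧸ M) := isCyclic_of_prime_card hcard
    rw [hQ1, Subgroup.normalClosure, Subgroup.closure_le]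
    intro z hz
    obtain ⟨a, ha, hconj⟩ := Group.mem_conjugatesOfSet_iff.1 hz
    obtain ⟨g, rfl⟩ := isConj_iff.1 hconj
    have hgQ : ∀ x ∈ Q, g * x * g⁻¹ ∈ Q := fun x hx => hQn.conj_mem x hx g
    rw [hs] at ha
    rcases ha with ⟨x, hx, rfl⟩ | ⟨x, hx, y, hy, rfl⟩
    · refine ⟨⟨g * x * g⁻¹, hgQ x hx⟩ ^ l, ?_, by simp [conj_pow]⟩
      have := pow_card_eq_one' (G := ↥Q ⧸ M) (x := QuotientGroup.mk' M ⟨g * x * g⁻¹, hgQ x hx⟩)
      rw [hcard, ← map_pow, QuotientGroup.mk'_apply, QuotientGroup.eq_one_iff] at this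
      exact this
    · obtain ⟨x', hx'⟩ : ∃ x' : ↥Q, x' = ⟨g * x * g⁻¹, hgQ x hx⟩ := ⟨_, rfl⟩
      obtain ⟨y', hy'⟩ : ∃ y' : ↥Q, y' = ⟨g * y * g⁻¹, hgQ y hy⟩ := ⟨_, rfl⟩
      refine ⟨x' * y' * x'⁻¹ * y'⁻¹, ?_, ?_⟩
      · rw [SetLike.mem_coe, ← QuotientGroup.eq_one_iff, ← QuotientGroup.mk'_apply, map_mul, map_mul, map_mul, map_inv,
          map_inv]
        letI : CommGroup (↥Q ⧸ M) := IsCyclic.commGroup
        rw [mul_right_comm, mul_inv_cancel_right, mul_inv_cancel]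
      · simp [hx', hy', mul_assoc]
  have hQ1Q : Q1 < Q := by
    refine lt_of_le_of_ne (hQ1M.trans (Subgroup.map_subtype_le _)) fun e => ?_
    have hMtop : M = ⊤ := eq_top_iff.2 fun x _ => by
      obtain ⟨y, hy, e'⟩ := hQ1M (by rw [e]; exact x.2)
      rwa [show x = y from Subtype.ext e'.symm]
    rw [hMtop, Subgroup.index_top] at hMidx
    exact hl.ne_one hMidx.symm
  have hQ1c : Q1 ≤ Subgroup.center H := hsmall Q1 hQ1n hQ1Q
  have hbig := hπ.section_bound (l := l) hQn hQ1n hQ1Q.le hQ1c hpow hcomm hnc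
  -- inside the monomial group
  obtain ⟨-, φ, hφi, -⟩ := exists_into_NS h (by omega) (ψ.comp Q.subtype) (hψ.comp Q.subtype_injective) hQ
  obtain ⟨f, hf⟩ : ∃ f : ↥Q →* (chevRel certE7 F).WQ, f = (chevRel certE7 F).qmk.comp φ := ⟨_, rfl⟩
  obtain ⟨A, hA⟩ : ∃ A : Subgroup ↥Q, A = f.ker := ⟨_, rfl⟩
  obtain ⟨Q1', hQ1'⟩ : ∃ Q1' : Subgroup ↥Q, Q1' = Q1.subgroupOf Q := ⟨_, rfl⟩
  haveI : Q1'.Normal := hQ1' ▸ hQ1n.subgroupOf Q
  have hidx : Q1.relIndex Q = Q1'.relIndex A * (A ⊔ Q1').index := by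
    rw [show Q1'.relIndex A = Q1'.relIndex (A ⊔ Q1') from (Subgroup.relIndex_sup_right _ _).symm,
      Subgroup.relIndex_mul_index le_sup_right, hQ1']; rfl
  have hAHS : ∀ a : ↥Q, a ∈ A → (φ a : ↥(chevE7.group F)) ∈ (chevRel certE7 F).HS := fun a ha => by
    rw [hA, MonoidHom.mem_ker, hf] at ha
    exact (chevRel certE7 F).qmk_eq_one.1 ha
  have hAcomm : ∀ a b : ↥Q, a ∈ A → b ∈ A → a * b = b * a := fun a b ha hb => hφi (Subtype.ext (by
    rw [map_mul, map_mul, Subgroup.coe_mul, Subgroup.coe_mul]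
    exact (chevRel certE7 F).HS_isMulCommutative (hAHS a ha) (hAHS b hb)))
  -- the part in the torus
  haveI : NeZero l := ⟨hl.ne_zero⟩
  have hα : Q1'.relIndex A ≤ Nat.card {t : ↥A // t ^ l = 1} := by
    letI : CommGroup ↥A :=
      { (inferInstance : Group ↥A) with mul_comm := fun a b => Subtype.ext (hAcomm a b a.2 b.2) }
    have e : Nat.card {t : ↥A // t ^ l = 1} = Nat.card (powMonoidHom l : ↥A →* ↥A).ker := rfl
    rw [e, card_ker_pow]
    refine Nat.le_of_dvd (Nat.pos_of_ne_zero Subgroup.index_ne_zero_of_finite)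
      (Subgroup.index_dvd_of_le (K := Q1'.subgroupOf A) ?_)
    rintro _ ⟨a, rfl⟩
    rw [Subgroup.mem_subgroupOf, hQ1', Subgroup.mem_subgroupOf]
    exact hpow _ (a : ↥Q).2
  obtain ⟨j, hj⟩ : ∃ j : {t : ↥A // t ^ l = 1} → {t : ↥(chevRel certE7 F).HS // t ^ l = 1},
      ∀ t, ((j t).1 : ↥(chevE7.group F)) = φ (t.1 : ↥Q) :=
    ⟨fun t => ⟨⟨φ (t.1 : ↥Q), hAHS _ t.1.2⟩, Subtype.ext (by
      rw [Subgroup.coe_pow]
      show ((φ (t.1 : ↥Q)) : ↥(chevE7.group F)) ^ l = 1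
      rw [← Subgroup.coe_pow, ← map_pow, ← Subgroup.coe_pow, t.2, OneMemClass.coe_one, map_one,
        OneMemClass.coe_one])⟩, fun _ => rfl⟩
  have hji : Function.Injective j := fun a b e => Subtype.ext (Subtype.ext (hφi (Subtype.ext (by
    rw [← hj, ← hj, e]))))
  haveI : Finite {t : ↥(chevRel certE7 F).HS // t ^ l = 1} := Subtype.finite
  have hT := Nat.card_le_card_of_injective j hji
  have hT7 := card_HS_torsion (chevRel certE7 F) l
  -- the part in the Weyl group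
  obtain ⟨Rs, hRs⟩ : ∃ Rs : Subgroup ↥f.range, Rs = Q1'.map f.rangeRestrict := ⟨_, rfl⟩
  have hβ : (A ⊔ Q1').index = Rs.index := by
    rw [hRs, Subgroup.index_map, MonoidHom.ker_rangeRestrict,
      MonoidHom.range_eq_top.2 f.rangeRestrict_surjective, Subgroup.index_top, mul_one, sup_comm, hA]
  have hP : IsPGroup l f.range := hQ.of_surjective f.rangeRestrict f.rangeRestrict_surjective
  have hRpow : ∀ x : ↥f.range, x ^ l ∈ Rs := fun x => by
    obtain ⟨y, rfl⟩ := f.rangeRestrict_surjective x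
    rw [← map_pow, hRs]
    exact Subgroup.mem_map_of_mem _ (by rw [hQ1', Subgroup.mem_subgroupOf]; exact hpow _ y.2)
  rw [hidx] at hbig
  have hb : Rs.index ≤ l := (Nat.le_of_dvd Nat.card_pos Rs.index_dvd_card).trans (card_le_prime _ h5 hP)
  have h1 := hbig.trans (Nat.mul_le_mul ((hα.trans hT).trans hT7) (hβ ▸ hb))
  rw [← pow_succ] at h1
  have := (Nat.pow_le_pow_iff_right hl.one_lt).1 h1
  omega

omit [Finite H] in
/-- Powers of two elements with central commutator. -/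
theorem pow_conj_pow {s t c : H} (hc : ∀ x : H, x * c = c * x) (h : s * t * s⁻¹ = c * t) (a b : ℕ) :
    s ^ a * t ^ b * (s ^ a)⁻¹ = c ^ (a * b) * t ^ b := by
  have h1 : s ^ a * t * (s ^ a)⁻¹ = c ^ a * t := by
    induction a with
    | zero => simp
    | succ a ih =>
      calc s ^ (a + 1) * t * (s ^ (a + 1))⁻¹ = s * (s ^ a * t * (s ^ a)⁻¹) * s⁻¹ := by rw [pow_succ']; group
        _ = (s * c ^ a) * t * s⁻¹ := by rw [ih]; simp only [mul_assoc]
        _ = c ^ a * (s * t * s⁻¹) := by rw [((show Commute s c from hc s).pow_right a).eq]; simp only [mul_assoc]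
        _ = c ^ (a + 1) * t := by rw [h, pow_succ, mul_assoc]
  have e : s ^ a * t ^ b * (s ^ a)⁻¹ = (s ^ a * t * (s ^ a)⁻¹) ^ b := conj_pow.symm
  rw [e, h1, (show Commute (c ^ a) t from ((show Commute t c from hc t).symm.pow_left a)).mul_pow, pow_mul]

omit [Finite H] in
/-- An abelian Sylow subgroup of a perfect group meets the centre trivially. -/
theorem eq_one_of_central {l : ℕ} [Fact l.Prime] [Finite H] (hperf : commutator H = ⊤) (P : Sylow l H)
    (hP : ∀ a ∈ (P : Subgroup H), ∀ b ∈ (P : Subgroup H), a * b = b * a) {z : H} (hz : z ∈ (P : Subgroup H))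
    (hzc : z ∈ Subgroup.center H) : z = 1 := by
  letI : CommGroup ↥(P : Subgroup H) :=
    { (inferInstance : Group ↥(P : Subgroup H)) with mul_comm := fun a b => Subtype.ext (hP a a.2 b b.2) }
  have htriv : MonoidHom.transfer (MonoidHom.id ↥(P : Subgroup H)) z = 1 := by
    rw [← MonoidHom.mem_ker]
    exact Abelianization.commutator_subset_ker _ (hperf ▸ Subgroup.mem_top z)
  rw [MonoidHom.transfer_eq_pow _ _ fun k g _ => by
    rw [mul_assoc, ← Subgroup.mem_center_iff.1 (pow_mem hzc k) g, inv_mul_cancel_left]] at htriv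
  have h1 : z ^ (P : Subgroup H).index = 1 := congrArg Subtype.val htriv
  obtain ⟨j, hj⟩ := P.2 ⟨z, hz⟩
  have h2 : z ^ (l ^ j) = 1 := by simpa [Subtype.ext_iff] using hj
  refine orderOf_eq_one_iff.1 (Nat.eq_one_of_dvd_coprimes ?_ (orderOf_dvd_of_pow_eq_one h2)
    (orderOf_dvd_of_pow_eq_one h1))
  exact Nat.Coprime.pow_left _ ((Fact.out : l.Prime).coprime_iff_not_dvd.2 P.not_dvd_index)

/-- The kernel has no elements of prime power order when the Sylow subgroup of the alternating group is abelian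
and scaled by a suitable element. -/
theorem ker_trivial {l : ℕ} [Fact l.Prime] {m n : ℕ} {π : H →* alternatingGroup (Fin m)} (hπ : MinCover π)
    (hcen : ∀ Q : Subgroup H, Q.Normal → IsPGroup l Q → Q ≤ Subgroup.center H)
    (t : Fin n → alternatingGroup (Fin m)) (hpow : ∀ i, t i ^ l = 1) (hcomm : ∀ i j, t i * t j = t j * t i)
    (hinj : Function.Injective fun v : Fin n → Fin l => (List.ofFn fun i => t i ^ (v i : ℕ)).prod)
    (hval : ¬ l ^ (n + 1) ∣ Nat.card (alternatingGroup (Fin m)))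
    (a : alternatingGroup (Fin m)) (e : Fin n → ℕ) (ha : ∀ i, a⁻¹ * t i * a = t i ^ e i)
    (he : ∀ i j, i ≠ j → e i * e j % l ≠ 1) : ∀ x ∈ π.ker, ∀ j : ℕ, x ^ (l ^ j) = 1 → x = 1 := by
  classical
  have hl : l.Prime := Fact.out
  have hcz : ∀ x ∈ π.ker, ∀ j : ℕ, x ^ (l ^ j) = 1 → x ∈ Subgroup.center H := by
    intro x hx j hj
    have hP : IsPGroup l (Subgroup.zpowers (⟨x, hx⟩ : π.ker)) := by
      rintro ⟨z, k, rfl⟩
      refine ⟨j, Subtype.ext (Subtype.ext ?_)⟩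
      show (x ^ k) ^ (l ^ j) = 1
      rw [← zpow_natCast, ← zpow_mul, mul_comm, zpow_mul, zpow_natCast, hj, one_zpow]
    obtain ⟨P, hP'⟩ := hP.exists_le_sylow
    refine hcen ((P : Subgroup π.ker).map π.ker.subtype) (Subgroup.normalizer_eq_top_iff.1 (hπ.min _ ?_))
      (P.2.map _) ⟨⟨x, hx⟩, hP' (Subgroup.mem_zpowers _), rfl⟩
    have h1 := congrArg (Subgroup.map π) (Sylow.normalizer_sup_eq_top P)
    rwa [Subgroup.map_sup, (Subgroup.map_eq_bot_iff π.ker).mpr le_rfl, sup_bot_eq, ← MonoidHom.range_eq_map,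
      MonoidHom.range_eq_top.mpr hπ.surj] at h1
  obtain ⟨P, hP⟩ : ∃ P : Subgroup (alternatingGroup (Fin m)), P = Subgroup.closure (Set.range t) := ⟨_, rfl⟩
  have htP : ∀ i, t i ∈ P := fun i => hP ▸ Subgroup.subset_closure ⟨i, rfl⟩
  have hPc : ∀ x ∈ P, ∀ y ∈ P, x * y = y * x := by
    intro x hx y hy
    letI := Subgroup.closureCommGroupOfComm (k := Set.range t) (by
      rintro _ ⟨i, rfl⟩ _ ⟨j, rfl⟩; exact hcomm i j)
    exact congrArg Subtype.val (mul_comm (⟨x, hP ▸ hx⟩ : Subgroup.closure (Set.range t)) ⟨y, hP ▸ hy⟩)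
  have hPl : ∀ x ∈ P, x ^ l = 1 := by
    intro x hx
    have hx' := hx
    rw [hP] at hx'
    induction hx' using Subgroup.closure_induction with
    | mem z hz => obtain ⟨i, rfl⟩ := hz; exact hpow i
    | one => exact one_pow _
    | mul u v hu hv ihu ihv =>
      rw [(show Commute u v from hPc u (hP ▸ hu) v (hP ▸ hv)).mul_pow, ihu (hP ▸ hu), ihv (hP ▸ hv), mul_one]
    | inv u hu ihu => rw [inv_pow, ihu (hP ▸ hu), inv_one]
  obtain ⟨S, hS, hmap, hlift⟩ := AltTorus.exists_lift hπ.surj (P := P)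
    (fun x => ⟨1, Subtype.ext (by rw [pow_one]; exact hPl _ x.2)⟩)
  obtain ⟨P₁, hP₁⟩ := hS.exists_le_sylow
  -- the image of the Sylow subgroup
  have himg : (P₁ : Subgroup H).map π = P := by
    refine (Subgroup.eq_of_le_of_card_ge (hmap ▸ Subgroup.map_mono hP₁) ?_).symm
    obtain ⟨k, hk⟩ := IsPGroup.iff_card.1 (P₁.2.map π)
    have hkn : k ≤ n := by
      by_contra hkn
      exact hval (((pow_dvd_pow l (by omega)).trans hk.symm.dvd).trans (Subgroup.card_subgroup_dvd_card _))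
    rw [hk]
    refine (Nat.pow_le_pow_right hl.pos hkn).trans ?_
    refine le_trans (le_of_eq ?_) (Nat.card_le_card_of_injective
      (fun v : Fin n → Fin l => (⟨(List.ofFn fun i => t i ^ (v i : ℕ)).prod,
        Subgroup.list_prod_mem _ fun w hw => by
          obtain ⟨i, rfl⟩ := List.mem_ofFn.1 hw
          exact pow_mem (htP i) _⟩ : ↥P)) fun v w h => hinj (congrArg Subtype.val h))
    simp
  have hex : ∀ i, ∃ s ∈ S, π s = t i := fun i => by
    obtain ⟨s, hs, e⟩ := hmap.symm ▸ htP i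
    exact ⟨s, hs, e⟩
  choose s hsS hs using hex
  have hSker : ∀ x ∈ (P₁ : Subgroup H), π x = 1 → x ∈ Subgroup.center H := fun x hx hx1 => by
    obtain ⟨j, hj⟩ := P₁.2 ⟨x, hx⟩
    exact hcz x (MonoidHom.mem_ker.2 hx1) j (by simpa [Subtype.ext_iff] using hj)
  obtain ⟨y₀, hy₀, hy₀a⟩ : ∃ y, y ∈ Subgroup.normalizer (S : Set H) ∧ π y = a := hlift a (by
    haveI : Finite (alternatingGroup (Fin m)) := inferInstance
    have hinv : a⁻¹ ∈ Subgroup.normalizer (P : Set (alternatingGroup (Fin m))) := by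
      refine Subgroup.mem_normalizer_fintype fun x hx => ?_
      show a⁻¹ * x * a⁻¹⁻¹ ∈ P
      rw [inv_inv]
      rw [SetLike.mem_coe, hP] at hx
      induction hx using Subgroup.closure_induction with
      | mem z hz => obtain ⟨i, rfl⟩ := hz; rw [ha]; exact pow_mem (htP i) _
      | one => simp
      | mul u w _ _ hu hw => simpa [mul_assoc] using mul_mem hu hw
      | inv u _ hu => simpa [mul_assoc] using inv_mem hu
    simpa using inv_mem hinv)
  have hsc : ∀ i j, s i * s j = s j * s i := by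
    intro i j
    by_cases hij : i = j
    · rw [hij]
    obtain ⟨c, hc⟩ : ∃ c, c = s i * s j * (s i)⁻¹ * (s j)⁻¹ := ⟨_, rfl⟩
    have hcS : c ∈ S := hc ▸ mul_mem (mul_mem (mul_mem (hsS i) (hsS j)) (inv_mem (hsS i))) (inv_mem (hsS j))
    have hcc : ∀ x : H, x * c = c * x := Subgroup.mem_center_iff.1 (hSker c (hP₁ hcS) (by
      rw [hc, map_mul, map_mul, map_mul, map_inv, map_inv, hs, hs, hcomm i j]; group))
    have hrel : s i * s j * (s i)⁻¹ = c * s j := by rw [hc]; group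
    have hz : ∀ k, ∃ z ∈ Subgroup.center H, y₀⁻¹ * s k * y₀ = s k ^ e k * z := fun k => by
      have hk : y₀⁻¹ * s k * y₀ ∈ S := by
        simpa using (Subgroup.mem_normalizer_iff.1 (inv_mem hy₀) (s k)).1 (hsS k)
      refine ⟨(s k ^ e k)⁻¹ * (y₀⁻¹ * s k * y₀), hSker _ (hP₁ (mul_mem (inv_mem (pow_mem (hsS k) _)) hk)) ?_,
        by group⟩
      rw [map_mul, map_inv, map_pow, map_mul, map_mul, map_inv, hy₀a, hs, ha, inv_mul_cancel]
    obtain ⟨z, hz1, hz2⟩ := hz i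
    obtain ⟨z', hz1', hz2'⟩ := hz j
    have h1 : c ^ (e i * e j) = c := by
      have hp := pow_conj_pow hcc hrel (e i) (e j)
      have hconj : y₀⁻¹ * (s i * s j * (s i)⁻¹ * (s j)⁻¹) * y₀ =
          (y₀⁻¹ * s i * y₀) * (y₀⁻¹ * s j * y₀) * (y₀⁻¹ * s i * y₀)⁻¹ * (y₀⁻¹ * s j * y₀)⁻¹ := by group
      rw [← hc, mul_assoc, ← hcc y₀, inv_mul_cancel_left, hz2, hz2'] at hconj
      have hzc := Subgroup.mem_center_iff.1 hz1
      have hzc' := Subgroup.mem_center_iff.1 hz1'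
      refine (hconj.trans ?_).symm
      calc s i ^ e i * z * (s j ^ e j * z') * (s i ^ e i * z)⁻¹ * (s j ^ e j * z')⁻¹
          = s i ^ e i * (z * s j ^ e j) * z' * z⁻¹ * (s i ^ e i)⁻¹ * z'⁻¹ * (s j ^ e j)⁻¹ := by group
        _ = s i ^ e i * s j ^ e j * (z * z' * z⁻¹) * (s i ^ e i)⁻¹ * z'⁻¹ * (s j ^ e j)⁻¹ := by
          rw [← hzc (s j ^ e j)]; simp only [mul_assoc]
        _ = s i ^ e i * s j ^ e j * (z' * (s i ^ e i)⁻¹) * z'⁻¹ * (s j ^ e j)⁻¹ := by
          rw [hzc' z, mul_inv_cancel_right]; simp only [mul_assoc]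
        _ = s i ^ e i * s j ^ e j * (s i ^ e i)⁻¹ * (s j ^ e j)⁻¹ := by
          rw [← hzc' ((s i ^ e i)⁻¹)]; group
        _ = c ^ (e i * e j) := by rw [hp, mul_inv_cancel_right]
    have h2 : c ^ l = 1 := by
      have hsl := hSker _ (hP₁ (pow_mem (hsS i) l)) (by rw [map_pow, hs, hpow])
      have hp := pow_conj_pow hcc hrel l 1
      rw [pow_one, mul_one, ← Subgroup.mem_center_iff.1 hsl (s j), mul_inv_cancel_right] at hp
      exact right_eq_mul.1 hp
    have h3 : c = 1 := by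
      by_contra hc1
      have ho : orderOf c = l := orderOf_eq_prime h2 hc1
      have h4 : c ^ (e i * e j) = c ^ 1 := by rw [pow_one]; exact h1
      rw [pow_eq_pow_iff_modEq, ho, Nat.ModEq, Nat.one_mod_eq_one.2 hl.ne_one] at h4
      exact he i j hij h4
    rw [h3, one_mul] at hrel
    exact mul_inv_eq_iff_eq_mul.1 hrel
  obtain ⟨W, hW⟩ : ∃ W : Subgroup H, W = Subgroup.closure (Set.range s) := ⟨_, rfl⟩
  have hWc : ∀ x ∈ W, ∀ y ∈ W, x * y = y * x := by
    intro x hx y hy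
    letI := Subgroup.closureCommGroupOfComm (k := Set.range s) (by
      rintro _ ⟨i, rfl⟩ _ ⟨j, rfl⟩; exact hsc i j)
    exact congrArg Subtype.val (mul_comm (⟨x, hW ▸ hx⟩ : Subgroup.closure (Set.range s)) ⟨y, hW ▸ hy⟩)
  have hWS : W ≤ (P₁ : Subgroup H) := hW ▸ (Subgroup.closure_le _).2 (by rintro _ ⟨i, rfl⟩; exact hP₁ (hsS i))
  have hdec : ∀ x ∈ (P₁ : Subgroup H), ∃ w ∈ W, ∃ z ∈ Subgroup.center H, x = w * z := by
    intro x hx
    obtain ⟨w, hw, hwx⟩ : π x ∈ W.map π := by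
      rw [hW, MonoidHom.map_closure, ← Set.range_comp, show ⇑π ∘ s = t from funext hs, ← hP, ← himg]
      exact ⟨x, hx, rfl⟩
    refine ⟨w, hw, w⁻¹ * x, hSker _ (mul_mem (inv_mem (hWS hw)) hx) ?_, by group⟩
    rw [map_mul, map_inv, hwx, inv_mul_cancel]
  have hab : ∀ a ∈ (P₁ : Subgroup H), ∀ b ∈ (P₁ : Subgroup H), a * b = b * a := by
    intro a ha b hb
    obtain ⟨u, hu, z, hz, rfl⟩ := hdec a ha
    obtain ⟨v, hv, z', hz', rfl⟩ := hdec b hb
    have c1 := Subgroup.mem_center_iff.1 hz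
    have c2 := Subgroup.mem_center_iff.1 hz'
    calc u * z * (v * z') = u * v * (z' * z) := by
          rw [c1 z', mul_assoc u, ← mul_assoc z, ← c1 v]; simp only [mul_assoc]
      _ = v * u * (z' * z) := by rw [hWc u hu v hv]
      _ = v * z' * (u * z) := by rw [mul_assoc v u, ← mul_assoc u, c2 u]; simp only [mul_assoc]
  intro x hx j hj
  have hxc := hcz x hx j hj
  refine eq_one_of_central hπ.perfect P₁ hab ?_ hxc
  have hP : IsPGroup l (Subgroup.zpowers x) := by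
    rintro ⟨_, k, rfl⟩
    refine ⟨j, Subtype.ext ?_⟩
    show (x ^ k) ^ (l ^ j) = 1
    rw [← zpow_natCast, ← zpow_mul, mul_comm, zpow_mul, zpow_natCast, hj, one_zpow]
  obtain ⟨P₂, hP₂⟩ := hP.exists_le_sylow
  obtain ⟨g, hg⟩ := MulAction.exists_smul_eq H P₂ P₁
  have h := Subgroup.smul_mem_pointwise_smul x (MulAut.conj g) _ (hP₂ (Subgroup.mem_zpowers x))
  rw [MulAut.smul_def, MulAut.conj_apply, Subgroup.mem_center_iff.1 hxc g, mul_inv_cancel_right] at h
  rw [← hg, Sylow.coe_subgroup_smul]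
  exact h

end CfsgLib.Known.AltE7
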