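import Cfsg.Agent.Lib.Known.AltE7.Seven
import Cfsg.Agent.Lib.Known.AltE7.Weyl
import Cfsg.Agent.Lib.Known.AltE6.Toral

/-!
# Elements of prime order of the torus of type E7 on the Lie algebra
-/

set_option autoImplicit false
set_option maxRecDepth 20000

namespace CfsgLib.Known.AltE7

open Module
open Cfsg.Lie (chevE7)
open CfsgLib.Lie.Chev hiding monP
open CfsgLib.Known.AltE6 (chi monMatrix monMatrix_mul monMatrix_inj monP torus_monMatrix rep rep_apply fixd
  fixd_monP_one cartBlock_one card_filter_countP wt mult)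
open CfsgLib.Perm.AltSection (wsp mem_wsp)
open scoped Matrix

theorem co_eq {r j : ℕ} (hr : r < 126) (hj : j < 7) : co r j = auxE7.coef j r :=
  (rootTab_ok.2.2 r hr j hj).symm

theorem symE7 : ∀ i j : Fin chevE7.rank, chevE7.cartan i (chevE7.simple j) = chevE7.cartan j (chevE7.simple i) := by
  decide +kernel

theorem sum_range_126 {β : Type*} [DecidableEq β] (f : ℕ → β) (b : β) :
    ((List.range 126).map f).count b = (Finset.univ.filter fun r : Fin chevE7.nroots => f r = b).card := by
  rw [List.count_eq_countP, List.countP_map]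
  exact (card_filter_countP (n := 126) _ _ fun r => by simp).symm

section Diagonal

variable {F : Type*} [Field F] {n : Type*} [Fintype n] [DecidableEq n]

theorem scaled_monP (c : Fˣ) (a : n → Fˣ) :
    (c : F) • Matrix.toLin' (monP 1 a) = Matrix.toLin' (monP 1 fun r => c * a r) := by
  rw [← map_smul]
  congr 1
  ext u s
  simp only [monP, Equiv.Perm.one_apply, Matrix.smul_apply, Matrix.of_apply, smul_eq_mul, Units.val_mul]
  split_ifs <;> simp_all

theorem mult_diag {ι : Type*} {l : ℕ} (a : ι → n → Fˣ) (ζ : F) (lam : ι → Fin l) (R0 : Finset n)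
    (hR : ∀ r, r ∈ R0 ↔ ∀ i, (a i r : F) = ζ ^ (lam i : ℕ)) :
    mult (fun i => Matrix.toLin' (monP 1 (a i))) ζ lam = R0.card := by
  classical
  have happ : ∀ i (x : n → F) r, Matrix.toLin' (monP 1 (a i)) x r = (a i r : F) * x r := fun i x r => by
    rw [Matrix.toLin'_apply]
    exact AltE6.monP_mulVec (1 : Equiv.Perm n) (a i) x r
  obtain ⟨e, he⟩ : ∃ e : ↥(wsp (fun i => Matrix.toLin' (monP 1 (a i))) (wt ζ lam)) ≃ₗ[F] (↥R0 → F),
      ∀ x r, e x r = (x : n → F) r := by
    refine ⟨LinearEquiv.ofBijective ((LinearMap.funLeft F F (fun r : ↥R0 => (r : n))).comp (Submodule.subtype _))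
      ⟨?_, fun y => ?_⟩, fun _ _ => rfl⟩
    · rw [injective_iff_map_eq_zero]
      intro x hx
      refine Subtype.ext (funext fun r => ?_)
      by_cases hr : r ∈ R0
      · exact congrFun hx ⟨r, hr⟩
      · obtain ⟨i, hi⟩ := not_forall.1 fun h => hr ((hR r).2 h)
        have h := congrFun (mem_wsp.1 x.2 i) r
        rw [happ, Pi.smul_apply, smul_eq_mul] at h
        exact (mul_eq_mul_right_iff.1 h).resolve_left hi
    · refine ⟨⟨fun r => if h : r ∈ R0 then y ⟨r, h⟩ else 0, mem_wsp.2 fun i => funext fun r => ?_⟩, ?_⟩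
      · rw [happ, Pi.smul_apply, smul_eq_mul]
        by_cases hr : r ∈ R0
        · rw [(hR r).1 hr i]; rfl
        · rw [dif_neg hr, mul_zero, mul_zero]
      · funext r
        exact dif_pos r.2
  rw [mult, e.finrank_eq, Module.finrank_pi, Fintype.card_coe]

theorem card_filter_sum {α β : Type*} [Fintype α] [Fintype β] (P : α ⊕ β → Prop) [DecidablePred P] :
    (Finset.univ.filter P).card =
      (Finset.univ.filter fun a => P (Sum.inl a)).card + (Finset.univ.filter fun b => P (Sum.inr b)).card := by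
  simp only [Finset.card_filter, Fintype.sum_sum_type]

end Diagonal

variable {F : Type*} [Field F] [Fintype F] {l : ℕ} [Fact l.Prime] [NeZero l]

/-- The values of an element of the torus with exponents `x`. -/
def chr (l : ℕ) [NeZero l] (z : Fˣ) (x : Fin 7 → ℤ) : chevE7.Idx → Fˣ :=
  Sum.elim (fun _ => 1) fun r : Fin chevE7.nroots => z ^ (res l (vz r x) : ℕ)

/-- An element of the torus with exponents `x`. -/
def HasExp (l : ℕ) [NeZero l] (z : Fˣ) (h : ↥(chevE7.group F)) (x : Fin 7 → ℤ) : Prop :=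
  (chevRel certE7 F).mat h = monP 1 (chr l z x)

theorem monMatrix_one (a : Fin chevE7.nroots → Fˣ) :
    monMatrix (chevRel certE7 F) 1 a = monP 1 (Sum.elim (fun _ => 1) a) := by
  rw [monMatrix, cartBlock_one]
  ext u s
  rcases u with u | u <;> rcases s with s | s <;> simp [monP, Matrix.one_apply]
  exact ite_congr rfl (fun _ => rfl) (fun _ => rfl)

theorem mat_pow_chi {h : ↥(chevE7.group F)} {a : Fin chevE7.nroots → Fˣ}
    (ha : (chevRel certE7 F).mat h = monMatrix (chevRel certE7 F) 1 a) :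
    ∀ k : ℕ, (chevRel certE7 F).mat (h ^ k) = monMatrix (chevRel certE7 F) 1 fun r => a r ^ k
  | 0 => by
    simp [monMatrix, cartBlock_one, AltE6.monP_one, Matrix.fromBlocks_one, (chevRel certE7 F).mat_one]
  | k + 1 => by
    rw [pow_succ, (chevRel certE7 F).mat_mul, mat_pow_chi ha k, ha,
      monMatrix_mul _ (chevRel certE7 F).isLin_one, one_mul]
    simp [pow_succ]

/-- Elements of the torus of order dividing `l` have exponents. -/
theorem exists_exp {z : Fˣ} (hz : orderOf z = l) {h : ↥(chevE7.group F)} (hh : h ∈ (chevRel certE7 F).HS)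
    (hl : h ^ l = 1) : ∃ x : Fin 7 → ℤ, HasExp l z h x := by
  classical
  obtain ⟨v, hv⟩ := torus_monMatrix F certE7 hh
  have e := mat_pow_chi hv l
  have e1 : monMatrix (chevRel certE7 F) 1 (fun _ => (1 : Fˣ)) = 1 := by
    simp [monMatrix, cartBlock_one, AltE6.monP_one, Matrix.fromBlocks_one]
  rw [hl, (chevRel certE7 F).mat_one, ← e1] at e
  have hpow := congrFun (monMatrix_inj _ e).2
  have hk : ∀ k : Fin chevE7.rank, ∃ i : ℕ, z ^ i = v k := fun k => by
    have h1 := hpow ((chevRel certE7 F).sroot k)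
    have e' : chi auxE7 v (((chevRel certE7 F).sroot k : Fin chevE7.nroots) : ℕ) = v k := by
      rw [chi, Finset.prod_eq_single k]
      · rw [(chevRel certE7 F).coef_sroot, if_pos rfl, zpow_one]
      · intro j _ hj; rw [(chevRel certE7 F).coef_sroot, if_neg hj, zpow_zero]
      · simp
    simp only [e'] at h1
    have hprim : IsPrimitiveRoot (z : F) l :=
      (hz ▸ IsPrimitiveRoot.orderOf z).map_of_injective (f := Units.coeHom F) Units.val_injective
    obtain ⟨i, -, hi⟩ := hprim.eq_pow_of_pow_eq_one (ξ := ((v k : Fˣ) : F))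
      (by rw [← Units.val_pow_eq_pow_val, ← h1, Units.val_one])
    exact ⟨i, Units.ext (by rw [Units.val_pow_eq_pow_val, hi])⟩
  choose i hi using hk
  refine ⟨fun k => (i k : ℤ), ?_⟩
  rw [HasExp, hv, monMatrix_one, chr]
  refine congrArg (fun a : Fin chevE7.nroots → Fˣ => monP 1 (Sum.elim (fun _ => 1) a)) (funext fun r => ?_)
  have hc : ∀ j : Fin 7, auxE7.coef j r = co r j := fun j => (co_eq r.2 j.2).symm
  rw [show chi auxE7 v (r : ℕ) = ∏ j : Fin 7, z ^ (co r j * (i j : ℤ)) from Finset.prod_congr rfl fun j _ => by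
      rw [← hi j, ← zpow_natCast, ← zpow_mul, mul_comm]; exact congrArg (fun e : ℤ => z ^ (e * (i j : ℤ))) (hc j),
    ← zpow_finset_sum, ← zpow_natCast]
  refine zpow_eq_zpow_iff_modEq.2 ?_
  rw [hz]
  refine (ZMod.intCast_eq_intCast_iff _ _ l).1 ?_
  rw [Int.cast_natCast, res_coe]
  rfl

theorem rep_of_exp {z : Fˣ} {h : ↥(chevE7.group F)} {x : Fin 7 → ℤ} (hx : HasExp l z h x) :
    rep chevE7 F h = Matrix.toLin' (monP 1 (chr l z x)) := by
  rw [rep_apply certE7, hx]

theorem res_inj {z : Fˣ} (hz : orderOf z = l) (a b : Fin l) : ((z ^ (a : ℕ) : Fˣ) : F) = (z : F) ^ (b : ℕ) ↔ a = b :=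
  ⟨fun e => Fin.ext (pow_injOn_Iio_orderOf (x := z) (by rw [hz]; exact a.2) (by rw [hz]; exact b.2)
    (Units.ext (by rw [e, Units.val_pow_eq_pow_val]))), fun e => by rw [e, Units.val_pow_eq_pow_val]⟩

/-- The multiplicities of weights are the numbers of roots. -/
theorem mult_toral {n : ℕ} {z : Fˣ} (hz : orderOf z = l) (h : Fin n → ↥(chevE7.group F)) (X : Fin n → Fin 7 → ℤ)
    (hX : ∀ i, HasExp l z (h i) (X i)) (lam : Fin n → Fin l) :
    mult (fun i => rep chevE7 F (h i)) (z : F) lam = (if lam = 0 then 7 else 0) + (vals l X).count lam := by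
  classical
  rw [show (fun i => rep chevE7 F (h i)) = fun i => Matrix.toLin' (monP 1 (chr l z (X i))) from
    funext fun i => rep_of_exp (hX i),
    mult_diag _ _ _ (Finset.univ.filter fun r => ∀ i, ((chr l z (X i) r : Fˣ) : F) = (z : F) ^ (lam i : ℕ))
      (fun r => by simp), card_filter_sum]
  congr 1
  · have hiff : (∀ i, ((1 : Fˣ) : F) = (z : F) ^ (lam i : ℕ)) ↔ lam = 0 := by
      refine ⟨fun e => funext fun i => ((res_inj hz 0 (lam i)).1 (by simpa using e i)).symm, fun e i => by simp [e]⟩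
    simp only [chr, Sum.elim_inl, hiff]
    split
    · simp [*]; rfl
    · simp [*]
  · rw [vals, sum_range_126]
    refine congrArg Finset.card (Finset.filter_congr fun r _ => ?_)
    simp only [chr, Sum.elim_inr, res_inj hz, funext_iff]

/-- The number of roots with a value, by a scaled element. -/
theorem fixd_scaled {z : Fˣ} (hz : orderOf z = l) {h : ↥(chevE7.group F)} {x : Fin 7 → ℤ} (hx : HasExp l z h x)
    {k : Fin l} (hk : k ≠ 0) :
    fixd ((((z ^ (k : ℕ))⁻¹ : Fˣ) : F) • rep chevE7 F h) = (vals1 l x).count k := by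
  classical
  rw [rep_of_exp hx, scaled_monP, fixd_monP_one _ (Finset.univ.filter fun r => chr l z x r = z ^ (k : ℕ))
    (fun r => by rw [Finset.mem_filter, inv_mul_eq_one]; simp [eq_comm]), card_filter_sum]
  have h0 : ((Finset.univ : Finset (Fin chevE7.rank)).filter fun a =>
      chr (F := F) l z x (Sum.inl a) = z ^ (k : ℕ)) = ∅ :=
    Finset.filter_eq_empty_iff.2 fun a _ e => hk ((res_inj hz 0 k).1 (by
      rw [← Units.val_pow_eq_pow_val, ← e]; simp [chr])).symm
  rw [h0, Finset.card_empty, zero_add, vals1, sum_range_126]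
  refine congrArg Finset.card (Finset.filter_congr fun r _ => ?_)
  rw [← res_inj hz (res l (vz r x)) k, ← Units.val_pow_eq_pow_val z (k : ℕ)]
  exact ⟨fun e => by rw [← e]; rfl, fun e => Units.ext e⟩

/-- Exponents of an element commuting with a monomial element are invariant. -/
theorem exp_fixed {z : Fˣ} (hz : orderOf z = l) {h : ↥(chevE7.group F)} {x : Fin 7 → ℤ} (hx : HasExp l z h x)
    (m : (chevRel certE7 F).NS) (hc : (m : ↥(chevE7.group F)) * h = h * m) (r : Fin chevE7.nroots) :
    res l (vz ((chevRel certE7 F).nsPerm m r : ℕ) x) = res l (vz r x) := by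
  obtain ⟨a, -, ha, -⟩ := AltE6.exists_monMatrix F certE7 symE7 m
  have e := congrArg (chevRel certE7 F).mat hc
  have hx' : (chevRel certE7 F).mat h = monMatrix (chevRel certE7 F) 1 fun r => z ^ (res l (vz r x) : ℕ) := by
    rw [monMatrix_one]; exact hx
  rw [(chevRel certE7 F).mat_mul, (chevRel certE7 F).mat_mul, hx', ha,
    monMatrix_mul _ ((chevRel certE7 F).isLin_nsPerm m), monMatrix_mul _ (chevRel certE7 F).isLin_one] at e
  have h1 := congrFun (monMatrix_inj _ e).2 r
  simp only [Equiv.Perm.one_apply] at h1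
  rw [mul_comm] at h1
  exact ((res_inj hz _ _).1 (by rw [← Units.val_pow_eq_pow_val, mul_right_cancel h1])).symm

end CfsgLib.Known.AltE7
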