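import Cfsg.Agent.Lib.Known.AltE7.Kernel
import Cfsg.Agent.Lib.Known.AltE7.Exact
import Cfsg.Agent.Lib.Known.AltE7.Torus
import Cfsg.Agent.Lib.Known.AltE7.Elements

/-!
# Alternating groups of degree fourteen and fifteen as sections of the groups of type E7
-/

set_option autoImplicit false
set_option maxRecDepth 20000
set_option maxHeartbeats 1000000

namespace CfsgLib.Known.AltE7

open Module
open Cfsg.Lie (chevE7)
open CfsgLib.Lie.Chev hiding monP
open CfsgLib.Known.AltE6 (rep rep_injective fixd System mult map_wsp prod_pow_apply Table wq keyW qact_wq key_wq)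

/-- The group theoretic data of an elementary abelian subgroup. -/
structure Elts {l n m r : ℕ} [NeZero l] [NeZero r] (cls : (Fin n → Fin l) → Fin r)
    (t : Fin n → alternatingGroup (Fin m)) where
  /-- normalising elements with their matrices -/
  gens : List (alternatingGroup (Fin m) × (Fin n → Fin n → ℕ) × (Fin n → Fin n → ℕ))
  /-- representatives -/
  repc : Fin r → Fin n → Fin l
  /-- the number of steps -/
  steps : ℕ
  norm : ∀ g ∈ gens, ∀ i, g.1⁻¹ * t i * g.1 = (List.ofFn fun j => t j ^ g.2.1 i j).prod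
  inv : ∀ g ∈ gens, ∀ lam, actf l g.2.2 (actf l g.2.1 lam) = lam ∧ cls (actf l g.2.1 lam) = cls lam
  cover : ∀ lam, lam ∈ reach (gens.map fun g => actf l g.2.1) steps (List.ofFn repc)
  cls_rep : ∀ j, cls (repc j) = j
  cls_mul : ∀ k : Fin l, k ≠ 0 → ∀ lam, cls (fun i => k * lam i) = cls lam
  cls_zero : ∀ lam, cls lam = 0 ↔ lam = 0
  pow : ∀ i, t i ^ l = 1
  comm : ∀ i j, t i * t j = t j * t i
  inj : Function.Injective fun v : Fin n → Fin l => (List.ofFn fun i => t i ^ (v i : ℕ)).prod

section Weights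

variable {k W : Type*} [Field k] [AddCommGroup W] [Module k W] [FiniteDimensional k W] {H : Type*} [Group H]
  {l n m r : ℕ} [NeZero l] [NeZero r] {cls : (Fin n → Fin l) → Fin r} {t : Fin n → alternatingGroup (Fin m)}

/-- The multiplicities only depend on the classes. -/
theorem Elts.class_const (E : Elts cls t) (σ : H →* End k W) {s : Fin n → H} {ζ : k}
    (hsys : System (fun i => σ (s i)) ζ l)
    (hy : ∀ g ∈ E.gens, ∃ y : H, ∀ i, y⁻¹ * s i * y = (List.ofFn fun j => s j ^ g.2.1 i j).prod)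
    (lam : Fin n → Fin l) : mult (fun i => σ (s i)) ζ lam = mult (fun i => σ (s i)) ζ (E.repc (cls lam)) := by
  classical
  refine reach_induction (P := fun lam => mult (fun i => σ (s i)) ζ lam = mult (fun i => σ (s i)) ζ (E.repc (cls lam)))
    _ (fun f hf a ha => ?_) E.steps _ (fun a ha => ?_) lam (E.cover lam)
  · obtain ⟨g, hg, rfl⟩ := List.mem_map.1 hf
    obtain ⟨y, hy⟩ := hy g hg
    obtain ⟨p, hp⟩ : ∃ p : Equiv.Perm (Fin n → Fin l), ∀ a, p a = actf l g.2.1 a :=
      ⟨Equiv.ofBijective _ (Finite.injective_iff_bijective.1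
        (Function.LeftInverse.injective fun a => (E.inv g hg a).1)), fun _ => rfl⟩
    have hperm := hsys.mult_perm (σ y) (fun x x' e => ?_) p (fun b x hx => ?_) a
    · rw [hp] at hperm
      rw [hperm, ha, (E.inv g hg a).2]
    · have := congrArg (σ y⁻¹) e
      rwa [← End.mul_apply, ← End.mul_apply, ← map_mul, inv_mul_cancel, map_one] at this
    · refine map_wsp hsys.root.pow_eq_one _ g.2.1 (fun i => ?_) b _ (fun i => ?_) hx
      · have e : (List.ofFn fun j => σ (s j) ^ g.2.1 i j).prod = σ (List.ofFn fun j => s j ^ g.2.1 i j).prod := by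
          rw [map_list_prod, List.map_ofFn]
          exact congrArg (fun f => (List.ofFn f).prod) (funext fun j => by simp)
        rw [e, ← map_mul, ← map_mul, ← hy i]
        congr 1
        group
      · rw [hp, actf, Fin.val_ofNat]
  · obtain ⟨j, rfl⟩ := List.mem_ofFn.1 ha
    rw [E.cls_rep]

end Weights

theorem fin_mul_cast {l : ℕ} [NeZero l] (a b : Fin l) :
    ((((a * b : Fin l)) : ℕ) : ZMod l) = ((a : ℕ) : ZMod l) * ((b : ℕ) : ZMod l) := by
  rw [Fin.val_mul, ZMod.natCast_mod, Nat.cast_mul]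

variable {F : Type*} [Field F] [Fintype F] {H : Type*} [Group H] [Finite H] {l n m r : ℕ} [Fact l.Prime] [NeZero l]
  [NeZero r] {cls : (Fin n → Fin l) → Fin r} {t : Fin n → alternatingGroup (Fin m)}

theorem eq_one_of_exp {z : Fˣ} {h : ↥(chevE7.group F)} {x : Fin 7 → ℤ} (hx : HasExp l z h x)
    (h0 : ∀ i < 126, res l (vz i x) = 0) : h = 1 := by
  refine chevRel_injective certE7 F ((chevRel certE7 F).θ_eq_of_mat ?_)
  rw [hx, (chevRel certE7 F).mat_one, ← AltE6.monP_one]
  refine congrArg (AltE6.monP 1) (funext fun a => ?_)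
  rcases a with a | a
  · rfl
  · simp [chr, h0 (a : ℕ) a.2]

theorem sroot_coords : ∀ i j : Fin 7, co (chevE7.simple i) j = if j = i then 1 else 0 := by decide +kernel

theorem vz_simple (i : Fin 7) (x : Fin 7 → ℤ) : vz (chevE7.simple i) x = x i := by
  simp [vz, sroot_coords]

/-- No cover inside the group when the subgroup lifts with these properties. -/
theorem false_of_lifts (h5 : 5 ≤ l) (hlq : l ∣ Fintype.card F - 1) {π : H →* alternatingGroup (Fin m)}
    (ψ : H →* ↥(chevE7.group F)) (hψ : Function.Injective ψ) (E : Elts cls t) (hn : 2 ≤ n) {s : Fin n → H}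
    (hs : ∀ i, π (s i) = t i) (hsl : ∀ i, s i ^ l = 1)
    (hy : ∀ g ∈ E.gens, ∃ y : H, ∀ i, y⁻¹ * s i * y = (List.ofFn fun j => s j ^ g.2.1 i j).prod)
    (hsc : ∀ i j, s i * s j = s j * s i) {word : List ℕ} (hword : (cycTable l word).OK) {N : ℕ}
    (hN : 2903040 = l * N) (hlN : ¬ l ∣ N)
    (hno : ∀ (X : Fin n → Fin 7 → ℤ) (g : Fin r → ℕ), (∀ w, (vals l X).count w = g (cls w)) → g 0 ≠ 126 → False)
    (hfix : ∀ x : Fin 7 → ℤ, (∀ i : Fin 7, res l (vz ((keyW chevE7 auxE7 word).getD i 0) x) = res l (x i)) →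
      Uni (vals1 l x) → ∀ i, res l (x i) = 0) : False := by
  classical
  have hl : l.Prime := Fact.out
  haveI : Finite ↥(chevE7.group F) := (chevRel certE7 F).Finite_of_field
  haveI := finite_WQ (chevRel certE7 F)
  obtain ⟨z, hz⟩ := exists_prime_orderOf_dvd_card' (G := Fˣ) l (by
    rwa [Nat.card_units, Nat.card_eq_fintype_card])
  have hζ : IsPrimitiveRoot (z : F) l :=
    (hz ▸ IsPrimitiveRoot.orderOf z).map_of_injective (f := Units.coeHom F) Units.val_injective
  haveI := hζ.neZero'
  -- into the monomial group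
  obtain ⟨S, hS⟩ : ∃ S : Subgroup H, S = Subgroup.closure (Set.range s) := ⟨_, rfl⟩
  have hSl : ∀ x ∈ S, x ^ l = 1 := by
    intro x hx
    rw [hS] at hx
    haveI := Subgroup.isMulCommutative_closure (k := Set.range s) (by
      rintro _ ⟨i, rfl⟩ _ ⟨j, rfl⟩; exact hsc i j)
    induction hx using Subgroup.closure_induction with
    | mem y hy => obtain ⟨i, rfl⟩ := hy; exact hsl i
    | one => exact one_pow _
    | mul u v hu hv ihu ihv =>
      have hc : Commute u v := congrArg Subtype.val
        (mul_comm' (⟨u, hu⟩ : Subgroup.closure (Set.range s)) ⟨v, hv⟩)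
      rw [hc.mul_pow, ihu, ihv, mul_one]
    | inv u hu ihu => rw [inv_pow, ihu, inv_one]
  have hSp : IsPGroup l S := fun x => ⟨1, Subtype.ext (by rw [pow_one]; exact hSl x x.2)⟩
  have hsS : ∀ i, s i ∈ S := fun i => hS ▸ Subgroup.subset_closure ⟨i, rfl⟩
  obtain ⟨g, φ, -, hφ⟩ := exists_into_NS hlq (by omega) (ψ.comp S.subtype) (hψ.comp S.subtype_injective) hSp
  obtain ⟨Q, hQ⟩ : ∃ Q : Subgroup (chevRel certE7 F).WQ, Q = ((chevRel certE7 F).qmk.comp φ).range := ⟨_, rfl⟩
  have hQl : IsPGroup l Q := hQ ▸ hSp.of_surjective _ (MonoidHom.rangeRestrict_surjective _)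
  obtain ⟨g2, hg2⟩ := hword.conj_into (chevRel certE7 F) (N := N) (by rw [card_WQ_E7, hN]) hlN hQl
  obtain ⟨c, hc⟩ : ∃ c : ↥(chevE7.group F), c = ((chevRel certE7 F).rep g2 : ↥(chevE7.group F)) * g := ⟨_, rfl⟩
  obtain ⟨Ψ, hΨ⟩ : ∃ Ψ : H →* ↥(chevE7.group F), Ψ = (MulAut.conj c).toMonoidHom.comp ψ := ⟨_, rfl⟩
  have hΨi : Function.Injective Ψ := hΨ ▸ (MulAut.conj c).injective.comp hψ
  have hmono : ∀ i, ∃ q : (chevRel certE7 F).NS, (q : ↥(chevE7.group F)) = Ψ (s i) ∧
      (chevRel certE7 F).qmk q ∈ (cycTable l word).sub (chevRel certE7 F) := fun i => by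
    refine ⟨(chevRel certE7 F).rep g2 * φ ⟨s i, hsS i⟩ * ((chevRel certE7 F).rep g2)⁻¹, ?_, ?_⟩
    · simp [hΨ, hc, hφ, mul_assoc]
    · rw [map_mul, map_mul, map_inv, (chevRel certE7 F).qmk_rep]
      exact hg2 _ (hQ ▸ ⟨⟨s i, hsS i⟩, rfl⟩)
  choose q hq hqsub using hmono
  -- the weights
  obtain ⟨σ, hσ⟩ : ∃ σ : H →* End F (chevE7.Idx → F), σ = (rep chevE7 F).comp Ψ := ⟨_, rfl⟩
  have hsys : System (fun i => σ (s i)) (z : F) l :=
    ⟨fun i => by rw [← map_pow, hsl, map_one], fun i j => (show Commute (s i) (s j) from hsc i j).map σ, hζ,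
      NeZero.ne _⟩
  obtain ⟨M, hM⟩ : ∃ M : Fin r → ℕ, ∀ j, M j = mult (fun i => σ (s i)) (z : F) (E.repc j) := ⟨_, fun _ => rfl⟩
  have hm : ∀ lam, mult (fun i => σ (s i)) (z : F) lam = M (cls lam) := fun lam => by
    rw [hM]; exact E.class_const σ hsys hy lam
  have hne : ∀ v : Fin n → Fin l, v ≠ 0 → (List.ofFn fun i => s i ^ (v i : ℕ)).prod ≠ 1 := fun v hv e => by
    refine hv (E.inj (a₂ := 0) ?_)
    have e' := congrArg π e
    rw [map_one, map_list_prod, List.map_ofFn] at e'
    simp only [Function.comp_def, map_pow, hs] at e'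
    simpa using e'
  by_cases htor : ∀ i, Ψ (s i) ∈ (chevRel certE7 F).HS
  · -- all in the torus
    choose X hX using fun i => exists_exp hz (htor i) (by rw [← map_pow, hsl, map_one])
    have hcount : ∀ w, (vals l X).count w = M (cls w) - if cls w = 0 then 7 else 0 := fun w => by
      have e := mult_toral hz (fun i => Ψ (s i)) X hX w
      rw [show (fun i => rep chevE7 F (Ψ (s i))) = fun i => σ (s i) by simp [hσ], hm] at e
      simp only [E.cls_zero]
      omega
    refine hno X (fun j => M j - if j = 0 then 7 else 0) hcount fun h126 => ?_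
    have h0 : (vals l X).count 0 = (vals l X).length := by
      rw [hcount, (E.cls_zero 0).2 rfl, length_vals]; exact h126
    have hall := List.count_eq_length.1 h0
    obtain ⟨i0⟩ : Nonempty (Fin n) := ⟨⟨0, by omega⟩⟩
    have h1 : Ψ (s i0) = 1 := eq_one_of_exp (hX i0) fun a ha =>
      (congrFun (hall _ (List.mem_map.2 ⟨a, List.mem_range.2 ha, rfl⟩)) i0).symm
    have hs1 : s i0 = 1 := hΨi (h1.trans (map_one Ψ).symm)
    have ht : t i0 = 1 := by rw [← hs i0, hs1, map_one]
    have e := @E.inj (Pi.single i0 1) 0 (by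
      simp only [Pi.zero_apply, Fin.val_zero, pow_zero]
      refine congrArg List.prod (congrArg List.ofFn (funext fun i => ?_))
      by_cases hi : i = i0
      · rw [hi, ht, one_pow]
      · simp [hi])
    have e1 := congrArg Fin.val (congrFun e i0)
    simp [Fin.val_one', Nat.mod_eq_of_lt hl.one_lt] at e1
  · -- some element outside the torus
    obtain ⟨i, hi⟩ := not_forall.1 htor
    obtain ⟨j, hj⟩ : ∃ j, j ≠ i := by
      by_cases h0 : i = ⟨0, by omega⟩
      · exact ⟨⟨1, by omega⟩, by rw [h0]; simp⟩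
      · exact ⟨⟨0, by omega⟩, Ne.symm h0⟩
    have hqi : (chevRel certE7 F).qmk (q i) ≠ 1 := fun e =>
      hi (hq i ▸ (chevRel certE7 F).qmk_eq_one.1 e)
    have hcard : Nat.card ↥((cycTable l word).sub (chevRel certE7 F)) = l := hword.card _
    have hgen : ∀ x ∈ (cycTable l word).sub (chevRel certE7 F), ∃ a : ℕ, (chevRel certE7 F).qmk (q i) ^ a = x :=
      fun x hx => by
      obtain ⟨a, ha⟩ := mem_powers_of_prime_card hcard (g := ⟨_, hqsub i⟩) (g' := ⟨x, hx⟩)
        (fun e => hqi (congrArg Subtype.val e))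
      exact ⟨a, congrArg Subtype.val ha⟩
    obtain ⟨a, ha⟩ := hgen _ (hqsub j)
    obtain ⟨v, hv⟩ : ∃ v : Fin n → Fin l, v = fun x => if x = j then 1 else if x = i then Fin.ofNat l ((l - 1) * a)
        else 0 := ⟨_, rfl⟩
    obtain ⟨u, hu⟩ : ∃ u : H, u = (List.ofFn fun i => s i ^ (v i : ℕ)).prod := ⟨_, rfl⟩
    have hv0 : v ≠ 0 := fun e => by
      have := congrArg Fin.val (congrFun e j)
      simp [hv, Fin.val_one', Nat.mod_eq_of_lt hl.one_lt] at this
    have hu1 : u ≠ 1 := hu ▸ hne v hv0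
    obtain ⟨qu, hqu⟩ : ∃ qu : (chevRel certE7 F).NS, qu = (List.ofFn fun i => q i ^ (v i : ℕ)).prod := ⟨_, rfl⟩
    have hqu' : (qu : ↥(chevE7.group F)) = Ψ u := by
      rw [hqu, hu, ← Subgroup.coe_subtype, map_list_prod, map_list_prod, List.map_ofFn, List.map_ofFn]
      exact congrArg List.prod (congrArg List.ofFn (funext fun i => by simp [hq]))
    have huHS : Ψ u ∈ (chevRel certE7 F).HS := by
      rw [← hqu']
      refine (chevRel certE7 F).qmk_eq_one.1 ?_
      have hpl : (chevRel certE7 F).qmk (q i) ^ l = 1 := by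
        rw [← map_pow, show q i ^ l = 1 from Subtype.ext (by rw [Subgroup.coe_pow, hq, ← map_pow, hsl, map_one]; rfl),
          map_one]
      rw [hqu, map_list_prod, List.map_ofFn,
        show ((chevRel certE7 F).qmk ∘ fun x => q x ^ (v x : ℕ)) = fun x => (chevRel certE7 F).qmk (q i) ^
          (if x = j then a else if x = i then (l - 1) * a else 0) from funext fun x => by
          simp only [Function.comp_apply, map_pow, hv]
          by_cases hxj : x = j
          · subst hxj
            simp [Fin.val_one', Nat.mod_eq_of_lt hl.one_lt, ha]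
          · by_cases hxi : x = i
            · subst hxi
              simp only [if_neg hxj, if_true, Fin.val_ofNat]
              exact (pow_eq_pow_mod _ hpl).symm
            · simp [hxj, hxi]]
      have hprod : ∀ {k : ℕ} (f : Fin k → ℕ) (b : (chevRel certE7 F).WQ),
          (List.ofFn fun x => b ^ f x).prod = b ^ ∑ x, f x := by
        intro k f b
        induction k with
        | zero => simp
        | succ k ih => rw [List.ofFn_succ, List.prod_cons, ih, Fin.sum_univ_succ, pow_add]
      have hji : i ≠ j := Ne.symm hj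
      rw [hprod, Finset.sum_eq_add (a := j) (b := i) hj (fun x _ hx => by simp [hx.1, hx.2]) (by simp) (by simp),
        if_pos rfl, if_neg hji, if_pos rfl,
        show a + (l - 1) * a = l * a by rw [Nat.sub_mul, one_mul, Nat.add_sub_cancel' (Nat.le_mul_of_pos_left _ hl.pos)],
        pow_mul, hpl, one_pow]
    obtain ⟨x, hx⟩ := exists_exp hz huHS (by rw [← map_pow, hSl u (hu ▸ Subgroup.list_prod_mem _ fun w hw => by
      obtain ⟨i, rfl⟩ := List.mem_ofFn.1 hw
      exact pow_mem (hsS i) _), map_one])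
    -- invariance under the word
    have hcomm : Commute (s i) u := hu ▸ Commute.list_prod_right _ _ fun w hw => by
      obtain ⟨x, rfl⟩ := List.mem_ofFn.1 hw
      exact (show Commute (s i) (s x) from hsc i x).pow_right _
    obtain ⟨K, hK⟩ : ∃ K : Subgroup (Equiv.Perm (Fin chevE7.nroots)),
        ∀ τ, τ ∈ K ↔ ∀ a, res l (vz (τ a : ℕ) x) = res l (vz (a : ℕ) x) :=
      ⟨{ carrier := {τ | ∀ a, res l (vz (τ a : ℕ) x) = res l (vz (a : ℕ) x)}
         mul_mem' := fun {τ τ'} h h' a => by rw [Equiv.Perm.mul_apply, h, h']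
         one_mem' := fun a => rfl
         inv_mem' := fun {τ} h a => by rw [← h (τ⁻¹ a), Equiv.Perm.coe_inv, Equiv.apply_symm_apply] },
        fun τ => Iff.rfl⟩
    have hKi : (chevRel certE7 F).qact ((chevRel certE7 F).qmk (q i)) ∈ K :=
      (hK _).2 (exp_fixed hz hx (q i) (by rw [hq, ← map_mul, ← map_mul, hcomm.eq]))
    obtain ⟨b, hb⟩ := hgen (wq (chevRel certE7 F) word) (Subgroup.subset_closure ⟨0, rfl⟩)
    have hKw : (chevRel certE7 F).qact (wq (chevRel certE7 F) word) ∈ K := by
      rw [← hb, map_pow]; exact pow_mem hKi b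
    have hlin : ∀ k : Fin 7, res l (vz ((keyW chevE7 auxE7 word).getD k 0) x) = res l (x k) := fun k => by
      have h := (hK _).1 hKw ((chevRel certE7 F).sroot k)
      rw [qact_wq, show (((chevRel certE7 F).sroot k : Fin chevE7.nroots) : ℕ) = chevE7.simple k from rfl,
        vz_simple] at h
      rw [← h, keyW, List.getD_eq_getElem _ _ (by simp; exact k.2), List.getElem_map, List.getElem_range]
    -- equal frequencies
    have hU : Uni (vals1 l x) := by
      have key : ∀ k : Fin l, k ≠ 0 → (vals1 l x).count k = ∑ lam ∈ Finset.univ.filter (fun lam : Fin n → Fin l =>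
          ((∑ i, (lam i : ℕ) * (v i : ℕ) : ℕ) : ZMod l) = (k : ℕ)), M (cls lam) := fun k hk => by
        rw [← fixd_scaled hz hx hk, hsys.fixd_eq _ (fun lam => (((z ^ (k : ℕ))⁻¹ : Fˣ) : F) *
          (z : F) ^ (∑ i, (lam i : ℕ) * (v i : ℕ))) (fun lam y hy => ?_) (Finset.univ.filter fun lam : Fin n → Fin l =>
            ((∑ i, (lam i : ℕ) * (v i : ℕ) : ℕ) : ZMod l) = (k : ℕ)) fun lam => ?_]
        · exact Finset.sum_congr rfl fun lam _ => hm lam
        · have e : rep chevE7 F (Ψ u) = (List.ofFn fun i => σ (s i) ^ (v i : ℕ)).prod := by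
            rw [hu, ← MonoidHom.comp_apply, ← hσ, map_list_prod, List.map_ofFn]
            exact congrArg (fun f => (List.ofFn f).prod) (funext fun i => by simp)
          rw [LinearMap.smul_apply, e, prod_pow_apply _ _ _ lam hy, smul_smul]
        · simp only [Finset.mem_filter, Finset.mem_univ, true_and]
          rw [← Units.val_pow_eq_pow_val, ← Units.val_mul, Units.val_eq_one, inv_mul_eq_one,
            pow_eq_pow_iff_modEq, hz, ← ZMod.natCast_eq_natCast_iff]
          exact eq_comm
      intro k hk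
      rw [key k hk, key 1 fun e => by simpa [Fin.val_one', Nat.mod_eq_of_lt hl.one_lt] using congrArg Fin.val e]
      have hk0 : ((k : ℕ) : ZMod l) ≠ 0 := fun e => hk (Fin.ext (Nat.eq_zero_of_dvd_of_lt
        ((CharP.cast_eq_zero_iff (ZMod l) l _).1 e) k.2))
      obtain ⟨p, hp⟩ : ∃ p : Equiv.Perm (Fin n → Fin l), ∀ lam, p lam = fun i => k * lam i := by
        refine ⟨Equiv.ofBijective (fun lam i => k * lam i) (Finite.injective_iff_bijective.1 fun a b e =>
          funext fun i => ?_), fun _ => rfl⟩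
        have e1 := congrArg (fun w : Fin l => ((w : ℕ) : ZMod l)) (congrFun e i)
        simp only [fin_mul_cast] at e1
        exact Fin.ext (by
          have := (ZMod.natCast_eq_natCast_iff' _ _ l).1 (mul_left_cancel₀ hk0 e1)
          rwa [Nat.mod_eq_of_lt (a i).2, Nat.mod_eq_of_lt (b i).2] at this)
      refine (Finset.sum_equiv p (fun lam => ?_) fun lam _ => ?_).symm
      · simp only [Finset.mem_filter, Finset.mem_univ, true_and, hp, Nat.cast_sum, Nat.cast_mul, fin_mul_cast,
          mul_assoc, ← Finset.mul_sum, Fin.val_one', Nat.mod_eq_of_lt hl.one_lt, Nat.cast_one]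
        exact ⟨fun e => by rw [e, mul_one], fun e => mul_left_cancel₀ hk0 (e.trans (mul_one _).symm)⟩
      · rw [hp, E.cls_mul k hk]
    have hzero := hfix x hlin hU
    refine hu1 (hΨi ((eq_one_of_exp hx fun a _ => ?_).trans (map_one Ψ).symm))
    rw [res_eq_zero_iff, vz, Int.cast_sum]
    refine Finset.sum_eq_zero fun k _ => ?_
    rw [Int.cast_mul, (res_eq_zero_iff _).1 (hzero k), mul_zero]

end CfsgLib.Known.AltE7
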