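import Mathlib.Data.Nat.Notation

/-!
# Tables for the searches among the roots of type E7
-/

set_option autoImplicit false

namespace CfsgLib.Known.AltE7

/-- The roots in the order of the coordinates. -/
def levIdx0 : List (ℕ × List ℕ) := [
  (2, [52, 73]),
  (0, [31, 32, 93, 94]),
  (1, [47, 78]),
  (6, [62, 63]),
  (4, [59, 66]),
  (3, [16, 22, 25, 26, 29, 30, 38, 41, 42, 45, 46, 50, 51, 55, 56, 69, 70, 74, 75, 79, 80, 83, 84, 87, 95, 96, 99, 100, 103, 109]),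
  (5, [0, 1, 2, 3, 4, 5, 6, 7, 8, 9, 10, 11, 12, 13, 14, 15, 17, 18, 19, 20, 21, 23, 24, 27, 28, 33, 34, 35, 36, 37, 39, 40, 43, 44, 48, 49, 53, 54, 57, 58, 60, 61, 64, 65, 67, 68, 71, 72, 76, 77, 81, 82, 85, 86, 88, 89, 90, 91, 92, 97, 98, 101, 102, 104, 105, 106, 107, 108, 110, 111, 112, 113, 114, 115, 116, 117, 118, 119, 120, 121, 122, 123, 124, 125])]

/-- The residues of the roots in the order of the coordinates. -/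
def levs0 : List (ℕ × List (ℕ × List ℕ)) := [
  (2, [
    (0, [0, 0, 6, 0, 0, 0, 0]), (0, [0, 0, 1, 0, 0, 0, 0])]),
  (0, [
    (0, [6, 0, 6, 0, 0, 0, 0]), (0, [6, 0, 0, 0, 0, 0, 0]), (0, [1, 0, 0, 0, 0, 0, 0]),
    (0, [1, 0, 1, 0, 0, 0, 0])]),
  (1, [
    (0, [0, 6, 0, 0, 0, 0, 0]), (0, [0, 1, 0, 0, 0, 0, 0])]),
  (6, [
    (0, [0, 0, 0, 0, 0, 0, 6]), (0, [0, 0, 0, 0, 0, 0, 1])]),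
  (4, [
    (0, [0, 0, 0, 0, 6, 0, 0]), (0, [0, 0, 0, 0, 1, 0, 0])]),
  (3, [
    (35, [6, 6, 5, 5, 6, 0, 0]), (35, [6, 6, 6, 5, 6, 0, 0]), (42, [6, 6, 6, 6, 6, 0, 0]),
    (42, [6, 6, 6, 6, 0, 0, 0]), (42, [6, 0, 6, 6, 6, 0, 0]), (42, [6, 0, 6, 6, 0, 0, 0]),
    (35, [0, 6, 6, 5, 6, 0, 0]), (42, [0, 6, 6, 6, 6, 0, 0]), (42, [0, 6, 6, 6, 0, 0, 0]),
    (42, [0, 6, 0, 6, 6, 0, 0]), (42, [0, 6, 0, 6, 0, 0, 0]), (42, [0, 0, 6, 6, 6, 0, 0]),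
    (42, [0, 0, 6, 6, 0, 0, 0]), (42, [0, 0, 0, 6, 6, 0, 0]), (42, [0, 0, 0, 6, 0, 0, 0]),
    (7, [0, 0, 0, 1, 0, 0, 0]), (7, [0, 0, 0, 1, 1, 0, 0]), (7, [0, 0, 1, 1, 0, 0, 0]),
    (7, [0, 0, 1, 1, 1, 0, 0]), (7, [0, 1, 0, 1, 0, 0, 0]), (7, [0, 1, 0, 1, 1, 0, 0]),
    (7, [0, 1, 1, 1, 0, 0, 0]), (7, [0, 1, 1, 1, 1, 0, 0]), (14, [0, 1, 1, 2, 1, 0, 0]),
    (7, [1, 0, 1, 1, 0, 0, 0]), (7, [1, 0, 1, 1, 1, 0, 0]), (7, [1, 1, 1, 1, 0, 0, 0]),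
    (7, [1, 1, 1, 1, 1, 0, 0]), (14, [1, 1, 1, 2, 1, 0, 0]), (14, [1, 1, 2, 2, 1, 0, 0])]),
  (5, [
    (7, [5, 5, 4, 3, 4, 5, 6]), (7, [6, 5, 4, 3, 4, 5, 6]), (7, [6, 5, 5, 3, 4, 5, 6]),
    (14, [6, 5, 5, 4, 4, 5, 6]), (14, [6, 5, 5, 4, 5, 5, 6]), (21, [6, 5, 5, 4, 5, 6, 6]),
    (21, [6, 5, 5, 4, 5, 6, 0]), (14, [6, 6, 5, 4, 4, 5, 6]), (14, [6, 6, 5, 4, 5, 5, 6]),
    (21, [6, 6, 5, 4, 5, 6, 6]), (21, [6, 6, 5, 4, 5, 6, 0]), (21, [6, 6, 5, 5, 5, 5, 6]),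
    (28, [6, 6, 5, 5, 5, 6, 6]), (28, [6, 6, 5, 5, 5, 6, 0]), (28, [6, 6, 5, 5, 6, 6, 6]),
    (28, [6, 6, 5, 5, 6, 6, 0]), (21, [6, 6, 6, 5, 5, 5, 6]), (28, [6, 6, 6, 5, 5, 6, 6]),
    (28, [6, 6, 6, 5, 5, 6, 0]), (28, [6, 6, 6, 5, 6, 6, 6]), (28, [6, 6, 6, 5, 6, 6, 0]),
    (35, [6, 6, 6, 6, 6, 6, 6]), (35, [6, 6, 6, 6, 6, 6, 0]), (35, [6, 0, 6, 6, 6, 6, 6]),
    (35, [6, 0, 6, 6, 6, 6, 0]), (21, [0, 6, 6, 5, 5, 5, 6]), (28, [0, 6, 6, 5, 5, 6, 6]),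
    (28, [0, 6, 6, 5, 5, 6, 0]), (28, [0, 6, 6, 5, 6, 6, 6]), (28, [0, 6, 6, 5, 6, 6, 0]),
    (35, [0, 6, 6, 6, 6, 6, 6]), (35, [0, 6, 6, 6, 6, 6, 0]), (35, [0, 6, 0, 6, 6, 6, 6]),
    (35, [0, 6, 0, 6, 6, 6, 0]), (35, [0, 0, 6, 6, 6, 6, 6]), (35, [0, 0, 6, 6, 6, 6, 0]),
    (35, [0, 0, 0, 6, 6, 6, 6]), (35, [0, 0, 0, 6, 6, 6, 0]), (42, [0, 0, 0, 0, 6, 6, 6]),
    (42, [0, 0, 0, 0, 6, 6, 0]), (42, [0, 0, 0, 0, 0, 6, 6]), (42, [0, 0, 0, 0, 0, 6, 0]),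
    (7, [0, 0, 0, 0, 0, 1, 0]), (7, [0, 0, 0, 0, 0, 1, 1]), (7, [0, 0, 0, 0, 1, 1, 0]),
    (7, [0, 0, 0, 0, 1, 1, 1]), (14, [0, 0, 0, 1, 1, 1, 0]), (14, [0, 0, 0, 1, 1, 1, 1]),
    (14, [0, 0, 1, 1, 1, 1, 0]), (14, [0, 0, 1, 1, 1, 1, 1]), (14, [0, 1, 0, 1, 1, 1, 0]),
    (14, [0, 1, 0, 1, 1, 1, 1]), (14, [0, 1, 1, 1, 1, 1, 0]), (14, [0, 1, 1, 1, 1, 1, 1]),
    (21, [0, 1, 1, 2, 1, 1, 0]), (21, [0, 1, 1, 2, 1, 1, 1]), (21, [0, 1, 1, 2, 2, 1, 0]),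
    (21, [0, 1, 1, 2, 2, 1, 1]), (28, [0, 1, 1, 2, 2, 2, 1]), (14, [1, 0, 1, 1, 1, 1, 0]),
    (14, [1, 0, 1, 1, 1, 1, 1]), (14, [1, 1, 1, 1, 1, 1, 0]), (14, [1, 1, 1, 1, 1, 1, 1]),
    (21, [1, 1, 1, 2, 1, 1, 0]), (21, [1, 1, 1, 2, 1, 1, 1]), (21, [1, 1, 1, 2, 2, 1, 0]),
    (21, [1, 1, 1, 2, 2, 1, 1]), (28, [1, 1, 1, 2, 2, 2, 1]), (21, [1, 1, 2, 2, 1, 1, 0]),
    (21, [1, 1, 2, 2, 1, 1, 1]), (21, [1, 1, 2, 2, 2, 1, 0]), (21, [1, 1, 2, 2, 2, 1, 1]),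
    (28, [1, 1, 2, 2, 2, 2, 1]), (28, [1, 1, 2, 3, 2, 1, 0]), (28, [1, 1, 2, 3, 2, 1, 1]),
    (35, [1, 1, 2, 3, 2, 2, 1]), (35, [1, 1, 2, 3, 3, 2, 1]), (28, [1, 2, 2, 3, 2, 1, 0]),
    (28, [1, 2, 2, 3, 2, 1, 1]), (35, [1, 2, 2, 3, 2, 2, 1]), (35, [1, 2, 2, 3, 3, 2, 1]),
    (42, [1, 2, 2, 4, 3, 2, 1]), (42, [1, 2, 3, 4, 3, 2, 1]), (42, [2, 2, 3, 4, 3, 2, 1])])]

/-- The roots in the order of the coordinates. -/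
def levIdx1 : List (ℕ × List ℕ) := [
  (4, [59, 66]),
  (5, [58, 61, 64, 67]),
  (1, [47, 78]),
  (2, [52, 73]),
  (3, [35, 37, 38, 40, 41, 42, 44, 45, 46, 49, 50, 51, 54, 55, 56, 69, 70, 71, 74, 75, 76, 79, 80, 81, 83, 84, 85, 87, 88, 90]),
  (0, [6, 10, 13, 15, 16, 19, 21, 22, 24, 25, 26, 28, 29, 30, 31, 32, 93, 94, 95, 96, 97, 99, 100, 101, 103, 104, 106, 109, 110, 112, 115, 119]),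
  (6, [0, 1, 2, 3, 4, 5, 7, 8, 9, 11, 12, 14, 17, 18, 20, 23, 27, 33, 34, 36, 39, 43, 48, 53, 57, 60, 62, 63, 65, 68, 72, 77, 82, 86, 89, 91, 92, 98, 102, 105, 107, 108, 111, 113, 114, 116, 117, 118, 120, 121, 122, 123, 124, 125])]

/-- The residues of the roots in the order of the coordinates. -/
def levs1 : List (ℕ × List (ℕ × List ℕ)) := [
  (4, [
    (0, [0, 0, 0, 0, 6, 0, 0]), (0, [0, 0, 0, 0, 1, 0, 0])]),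
  (5, [
    (0, [0, 0, 0, 0, 6, 6, 0]), (0, [0, 0, 0, 0, 0, 6, 0]), (0, [0, 0, 0, 0, 0, 1, 0]),
    (0, [0, 0, 0, 0, 1, 1, 0])]),
  (1, [
    (0, [0, 6, 0, 0, 0, 0, 0]), (0, [0, 1, 0, 0, 0, 0, 0])]),
  (2, [
    (0, [0, 0, 6, 0, 0, 0, 0]), (0, [0, 0, 1, 0, 0, 0, 0])]),
  (3, [
    (35, [0, 6, 6, 5, 5, 6, 0]), (35, [0, 6, 6, 5, 6, 6, 0]), (35, [0, 6, 6, 5, 6, 0, 0]),
    (42, [0, 6, 6, 6, 6, 6, 0]), (42, [0, 6, 6, 6, 6, 0, 0]), (42, [0, 6, 6, 6, 0, 0, 0]),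
    (42, [0, 6, 0, 6, 6, 6, 0]), (42, [0, 6, 0, 6, 6, 0, 0]), (42, [0, 6, 0, 6, 0, 0, 0]),
    (42, [0, 0, 6, 6, 6, 6, 0]), (42, [0, 0, 6, 6, 6, 0, 0]), (42, [0, 0, 6, 6, 0, 0, 0]),
    (42, [0, 0, 0, 6, 6, 6, 0]), (42, [0, 0, 0, 6, 6, 0, 0]), (42, [0, 0, 0, 6, 0, 0, 0]),
    (7, [0, 0, 0, 1, 0, 0, 0]), (7, [0, 0, 0, 1, 1, 0, 0]), (7, [0, 0, 0, 1, 1, 1, 0]),
    (7, [0, 0, 1, 1, 0, 0, 0]), (7, [0, 0, 1, 1, 1, 0, 0]), (7, [0, 0, 1, 1, 1, 1, 0]),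
    (7, [0, 1, 0, 1, 0, 0, 0]), (7, [0, 1, 0, 1, 1, 0, 0]), (7, [0, 1, 0, 1, 1, 1, 0]),
    (7, [0, 1, 1, 1, 0, 0, 0]), (7, [0, 1, 1, 1, 1, 0, 0]), (7, [0, 1, 1, 1, 1, 1, 0]),
    (14, [0, 1, 1, 2, 1, 0, 0]), (14, [0, 1, 1, 2, 1, 1, 0]), (14, [0, 1, 1, 2, 2, 1, 0])]),
  (0, [
    (21, [6, 5, 5, 4, 5, 6, 0]), (21, [6, 6, 5, 4, 5, 6, 0]), (28, [6, 6, 5, 5, 5, 6, 0]),
    (28, [6, 6, 5, 5, 6, 6, 0]), (28, [6, 6, 5, 5, 6, 0, 0]), (28, [6, 6, 6, 5, 5, 6, 0]),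
    (28, [6, 6, 6, 5, 6, 6, 0]), (28, [6, 6, 6, 5, 6, 0, 0]), (35, [6, 6, 6, 6, 6, 6, 0]),
    (35, [6, 6, 6, 6, 6, 0, 0]), (35, [6, 6, 6, 6, 0, 0, 0]), (35, [6, 0, 6, 6, 6, 6, 0]),
    (35, [6, 0, 6, 6, 6, 0, 0]), (35, [6, 0, 6, 6, 0, 0, 0]), (42, [6, 0, 6, 0, 0, 0, 0]),
    (42, [6, 0, 0, 0, 0, 0, 0]), (7, [1, 0, 0, 0, 0, 0, 0]), (7, [1, 0, 1, 0, 0, 0, 0]),
    (14, [1, 0, 1, 1, 0, 0, 0]), (14, [1, 0, 1, 1, 1, 0, 0]), (14, [1, 0, 1, 1, 1, 1, 0]),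
    (14, [1, 1, 1, 1, 0, 0, 0]), (14, [1, 1, 1, 1, 1, 0, 0]), (14, [1, 1, 1, 1, 1, 1, 0]),
    (21, [1, 1, 1, 2, 1, 0, 0]), (21, [1, 1, 1, 2, 1, 1, 0]), (21, [1, 1, 1, 2, 2, 1, 0]),
    (21, [1, 1, 2, 2, 1, 0, 0]), (21, [1, 1, 2, 2, 1, 1, 0]), (21, [1, 1, 2, 2, 2, 1, 0]),
    (28, [1, 1, 2, 3, 2, 1, 0]), (28, [1, 2, 2, 3, 2, 1, 0])]),
  (6, [
    (0, [5, 5, 4, 3, 4, 5, 6]), (7, [6, 5, 4, 3, 4, 5, 6]), (7, [6, 5, 5, 3, 4, 5, 6]),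
    (14, [6, 5, 5, 4, 4, 5, 6]), (14, [6, 5, 5, 4, 5, 5, 6]), (14, [6, 5, 5, 4, 5, 6, 6]),
    (14, [6, 6, 5, 4, 4, 5, 6]), (14, [6, 6, 5, 4, 5, 5, 6]), (14, [6, 6, 5, 4, 5, 6, 6]),
    (21, [6, 6, 5, 5, 5, 5, 6]), (21, [6, 6, 5, 5, 5, 6, 6]), (21, [6, 6, 5, 5, 6, 6, 6]),
    (21, [6, 6, 6, 5, 5, 5, 6]), (21, [6, 6, 6, 5, 5, 6, 6]), (21, [6, 6, 6, 5, 6, 6, 6]),
    (28, [6, 6, 6, 6, 6, 6, 6]), (28, [6, 0, 6, 6, 6, 6, 6]), (28, [0, 6, 6, 5, 5, 5, 6]),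
    (28, [0, 6, 6, 5, 5, 6, 6]), (28, [0, 6, 6, 5, 6, 6, 6]), (35, [0, 6, 6, 6, 6, 6, 6]),
    (35, [0, 6, 0, 6, 6, 6, 6]), (35, [0, 0, 6, 6, 6, 6, 6]), (35, [0, 0, 0, 6, 6, 6, 6]),
    (42, [0, 0, 0, 0, 6, 6, 6]), (42, [0, 0, 0, 0, 0, 6, 6]), (42, [0, 0, 0, 0, 0, 0, 6]),
    (7, [0, 0, 0, 0, 0, 0, 1]), (7, [0, 0, 0, 0, 0, 1, 1]), (7, [0, 0, 0, 0, 1, 1, 1]),
    (14, [0, 0, 0, 1, 1, 1, 1]), (14, [0, 0, 1, 1, 1, 1, 1]), (14, [0, 1, 0, 1, 1, 1, 1]),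
    (14, [0, 1, 1, 1, 1, 1, 1]), (21, [0, 1, 1, 2, 1, 1, 1]), (21, [0, 1, 1, 2, 2, 1, 1]),
    (21, [0, 1, 1, 2, 2, 2, 1]), (21, [1, 0, 1, 1, 1, 1, 1]), (21, [1, 1, 1, 1, 1, 1, 1]),
    (28, [1, 1, 1, 2, 1, 1, 1]), (28, [1, 1, 1, 2, 2, 1, 1]), (28, [1, 1, 1, 2, 2, 2, 1]),
    (28, [1, 1, 2, 2, 1, 1, 1]), (28, [1, 1, 2, 2, 2, 1, 1]), (28, [1, 1, 2, 2, 2, 2, 1]),
    (35, [1, 1, 2, 3, 2, 1, 1]), (35, [1, 1, 2, 3, 2, 2, 1]), (35, [1, 1, 2, 3, 3, 2, 1]),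
    (35, [1, 2, 2, 3, 2, 1, 1]), (35, [1, 2, 2, 3, 2, 2, 1]), (35, [1, 2, 2, 3, 3, 2, 1]),
    (42, [1, 2, 2, 4, 3, 2, 1]), (42, [1, 2, 3, 4, 3, 2, 1]), (0, [2, 2, 3, 4, 3, 2, 1])])]

/-- For each root its negative and two roots differing by it. -/
def diffTab : List (ℕ × ℕ × ℕ) := [
  (125, 93, 1), (124, 32, 0), (123, 31, 0), (122, 30, 0), (121, 29, 0), (120, 28, 0), (119, 27, 0), (118, 26, 0),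
  (117, 25, 0), (116, 24, 0), (115, 23, 0), (114, 22, 0), (113, 21, 0), (112, 20, 0), (111, 19, 0), (110, 18, 0),
  (109, 17, 0), (108, 16, 0), (107, 15, 0), (106, 14, 0), (105, 13, 0), (104, 12, 0), (103, 11, 0), (102, 10, 0),
  (101, 9, 0), (100, 8, 0), (99, 7, 0), (98, 6, 0), (97, 5, 0), (96, 4, 0), (95, 3, 0), (94, 2, 0),
  (93, 1, 0), (92, 16, 1), (91, 15, 1), (90, 14, 1), (89, 13, 1), (88, 12, 1), (87, 11, 1), (86, 10, 1),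
  (85, 9, 1), (84, 8, 1), (83, 7, 1), (82, 10, 2), (81, 9, 2), (80, 8, 2), (79, 7, 2), (78, 7, 3),
  (77, 6, 1), (76, 5, 1), (75, 4, 1), (74, 3, 1), (73, 2, 1), (72, 6, 2), (71, 5, 2), (70, 4, 2),
  (69, 3, 2), (68, 6, 3), (67, 5, 3), (66, 4, 3), (65, 6, 4), (64, 5, 4), (63, 6, 5), (62, 5, 6),
  (61, 4, 5), (60, 4, 6), (59, 3, 4), (58, 3, 5), (57, 3, 6), (56, 2, 3), (55, 2, 4), (54, 2, 5),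
  (53, 2, 6), (52, 1, 2), (51, 1, 3), (50, 1, 4), (49, 1, 5), (48, 1, 6), (47, 3, 7), (46, 2, 7),
  (45, 2, 8), (44, 2, 9), (43, 2, 10), (42, 1, 7), (41, 1, 8), (40, 1, 9), (39, 1, 10), (38, 1, 11),
  (37, 1, 12), (36, 1, 13), (35, 1, 14), (34, 1, 15), (33, 1, 16), (32, 0, 1), (31, 0, 2), (30, 0, 3),
  (29, 0, 4), (28, 0, 5), (27, 0, 6), (26, 0, 7), (25, 0, 8), (24, 0, 9), (23, 0, 10), (22, 0, 11),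
  (21, 0, 12), (20, 0, 13), (19, 0, 14), (18, 0, 15), (17, 0, 16), (16, 0, 17), (15, 0, 18), (14, 0, 19),
  (13, 0, 20), (12, 0, 21), (11, 0, 22), (10, 0, 23), (9, 0, 24), (8, 0, 25), (7, 0, 26), (6, 0, 27),
  (5, 0, 28), (4, 0, 29), (3, 0, 30), (2, 0, 31), (1, 0, 32), (0, 1, 93)]

end CfsgLib.Known.AltE7
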