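import Cfsg.Agent.Lib.Known.AltE7.Kac
import Cfsg.Agent.Lib.Known.AltE7.SearchData

/-!
# A bounded search for pairs of points with few coincidences among the roots
-/

set_option autoImplicit false

namespace CfsgLib.Known.AltE7

/-- A scalar product of lists. -/
def dotN : List ℕ → List ℕ → ℕ
  | a :: as, b :: bs => a * b + dotN as bs
  | _, _ => 0

theorem dotN_congr : ∀ (c y Y : List ℕ), y.length = Y.length →
    (∀ j, c.getD j 0 = 0 ∨ y.getD j 0 = Y.getD j 0) → dotN c y = dotN c Y
  | [], y, Y, _, _ => by cases y <;> cases Y <;> rfl
  | a :: as, [], Y, h, _ => by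
    rw [List.length_eq_zero_iff.1 h.symm]
  | a :: as, b :: bs, [], h, _ => by simp at h
  | a :: as, b :: bs, B :: Bs, h, hj => by
    simp only [dotN]
    rw [dotN_congr as bs Bs (by simpa using h) fun j => by simpa using hj (j + 1)]
    rcases hj 0 with h0 | h0 <;> simp at h0 <;> simp [h0]

/-- The code of the two residues at a root. -/
def code (l : ℕ) (y : List ℕ) (it : ℕ × List ℕ) : ℕ := it.1 + dotN it.2 y % l

/-- Add the roots of a level. -/
def stepV (cap : ℕ → ℕ) (l : ℕ) (y : List ℕ) : List (ℕ × List ℕ) → List ℕ → Option (List ℕ)
  | [], V => some V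
  | it :: rs, V =>
    if Nat.ble ((code l y it :: V).count (code l y it)) (cap (code l y it)) then stepV cap l y rs (code l y it :: V)
    else none

/-- No point satisfies the bounds. -/
def nope (cap : ℕ → ℕ) (l : ℕ) : List (ℕ × List (ℕ × List ℕ)) → List ℕ → List ℕ → Bool
  | [], _, _ => false
  | (o, rs) :: rest, y, V =>
    (List.range l).all fun t =>
      match stepV cap l (y.set o t) rs V with
      | none => true
      | some V' => nope cap l rest (y.set o t) V'

theorem stepV_some (cap : ℕ → ℕ) (l : ℕ) (y : List ℕ) : ∀ (rs : List (ℕ × List ℕ)) (V : List ℕ),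
    (∀ w, w ∈ rs.map (code l y) → ((rs.map (code l y)).reverse ++ V).count w ≤ cap w) →
      stepV cap l y rs V = some ((rs.map (code l y)).reverse ++ V)
  | [], V, _ => rfl
  | it :: rs, V, h => by
    have e : ((it :: rs).map (code l y)).reverse ++ V = (rs.map (code l y)).reverse ++ code l y it :: V := by simp
    rw [stepV, if_pos, e, stepV_some cap l y rs]
    · intro w hw
      rw [← e]
      exact h w (List.mem_cons_of_mem _ hw)
    · rw [Nat.ble_eq]
      refine le_trans ?_ (h _ List.mem_cons_self)
      rw [e, List.count_append]
      omega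

/-- The coordinates of the rows are assigned in time. -/
def levsOK : List (ℕ × List (ℕ × List ℕ)) → List ℕ → Bool
  | [], _ => true
  | (o, rs) :: rest, done =>
    (rs.all fun it => (List.range it.2.length).all fun j => it.2.getD j 0 == 0 || j == o || done.contains j) &&
      levsOK rest (o :: done)

theorem nope_false (cap : ℕ → ℕ) {l : ℕ} {Y : List ℕ} (hY : ∀ j, Y.getD j 0 < l) :
    ∀ (levs : List (ℕ × List (ℕ × List ℕ))) (y V done : List ℕ), levsOK levs done = true →
      y.length = Y.length → (∀ j ∈ done, y.getD j 0 = Y.getD j 0) →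
      (∀ w, ((levs.flatMap Prod.snd).map (code l Y) ++ V).count w ≤ cap w) → nope cap l levs y V = false
  | [], y, V, done, _, _, _, _ => rfl
  | (o, rs) :: rest, y, V, done, hok, hlen, hag, hcap => by
    simp only [levsOK, Bool.and_eq_true, List.all_eq_true] at hok
    obtain ⟨y', hy'⟩ : ∃ y', y' = y.set o (Y.getD o 0) := ⟨_, rfl⟩
    have hlen' : y'.length = Y.length := by rw [hy', List.length_set, hlen]
    have hag' : ∀ j ∈ o :: done, y'.getD j 0 = Y.getD j 0 := fun j hj => by
      rw [hy', List.getD_eq_getElem?_getD, List.getElem?_set]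
      by_cases hoj : o = j
      · subst hoj
        by_cases hol : o < y.length
        · simp [hol]
        · rw [if_pos rfl, if_neg hol, Option.getD_none,
            List.getD_eq_default _ _ (hlen ▸ not_lt.1 hol : Y.length ≤ o)]
      · rw [if_neg hoj, ← List.getD_eq_getElem?_getD]
        exact hag j ((List.mem_cons.1 hj).resolve_left fun e => hoj e.symm)
    have hval : rs.map (code l y') = rs.map (code l Y) := by
      refine List.map_congr_left fun it hit => ?_
      rw [code, code, dotN_congr it.2 y' Y hlen' fun j => ?_]
      by_cases hj : j < it.2.length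
      · have h := hok.1 it hit j (List.mem_range.2 hj)
        simp only [Bool.or_eq_true, beq_iff_eq, List.contains_iff_mem] at h
        rcases h with (h | h) | h
        · exact Or.inl h
        · exact Or.inr (hag' j (h ▸ List.mem_cons_self))
        · exact Or.inr (hag' j (List.mem_cons_of_mem _ h))
      · exact Or.inl (List.getD_eq_default _ _ (not_lt.1 hj))
    have hcnt : ∀ w, ((rest.flatMap Prod.snd).map (code l Y) ++ ((rs.map (code l Y)).reverse ++ V)).count w =
        (((o, rs) :: rest).flatMap Prod.snd |>.map (code l Y) |>.append V).count w := fun w => by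
      simp [List.count_append]
      omega
    rw [nope, List.all_eq_false]
    refine ⟨Y.getD o 0, List.mem_range.2 (hY o), ?_⟩
    rw [← hy', stepV_some cap l y' rs V (fun w _ => ?_)]
    · simp only [Bool.not_eq_true]
      refine nope_false cap hY rest y' _ (o :: done) hok.2 hlen' hag' fun w => ?_
      rw [hval, hcnt]
      exact hcap w
    · rw [hval]
      refine le_trans ?_ ((hcnt w).trans_le (hcap w))
      rw [List.count_append, List.count_append, List.count_append]
      omega

end CfsgLib.Known.AltE7
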