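import Cfsg.Agent.Lib.Known.AltE7.Uniform
import Cfsg.Agent.Lib.Known.AltE7.Search

/-!
# No pair of points with the residues of two commuting elements of order seven
-/

set_option autoImplicit false
set_option maxRecDepth 20000
set_option maxHeartbeats 1000000

namespace CfsgLib.Known.AltE7

theorem count_cls {α β : Type*} [Fintype α] [DecidableEq α] [DecidableEq β] {m : ℕ} (L : List α) (cls : α → Fin m)
    (g : Fin m → ℕ) (h : ∀ a, L.count a = g (cls a)) (f : α → β) (b : β) :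
    (L.map f).count b = ∑ j, (Finset.univ.filter fun a => f a = b ∧ cls a = j).card * g j := by
  rw [count_map_eq_sum, ← Finset.sum_fiberwise _ cls]
  refine Finset.sum_congr rfl fun j _ => ?_
  rw [Finset.filter_filter, ← smul_eq_mul, ← Finset.sum_const]
  refine Finset.sum_congr rfl fun a ha => ?_
  rw [h, (Finset.mem_filter.1 ha).2.2]

/-- The three classes of residues at two points. -/
def cls7 (w : Fin 2 → Fin 7) : Fin 3 := if w 0 = 0 then (if w 1 = 0 then 0 else 1) else if w 1 = 0 then 1 else 2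

/-- The bounds on the classes. -/
def cap7 (w : ℕ) : ℕ := if w = 0 then 6 else if w < 7 ∨ w % 7 = 0 then 1 else 3

/-- The item of a root. -/
def item7 (q : List ℕ) (r : ℕ) : ℕ × List ℕ :=
  ((res 7 (vz r (ptOf q)) : ℕ) * 7, List.ofFn fun j : Fin 7 => ((res 7 (co r j) : Fin 7) : ℕ))

theorem levs_ok :
    levs0.flatMap Prod.snd = (levIdx0.flatMap Prod.snd).map (item7 [0, 0, 0, 1, 0, 1, 0]) ∧
    (levIdx0.flatMap Prod.snd).Perm (List.range 126) ∧ levsOK levs0 [] = true ∧
    levs1.flatMap Prod.snd = (levIdx1.flatMap Prod.snd).map (item7 [1, 0, 0, 1, 0, 0, 1]) ∧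
    (levIdx1.flatMap Prod.snd).Perm (List.range 126) ∧ levsOK levs1 [] = true := by decide +kernel

theorem nope0 : nope cap7 7 levs0 [0, 0, 0, 0, 0, 0, 0] [] = true := by decide +kernel

theorem nope1 : nope cap7 7 levs1 [0, 0, 0, 0, 0, 0, 0] [] = true := by decide +kernel

/-- The code of two residues. -/
def code2 (w : Fin 2 → Fin 7) : ℕ := (w 0 : ℕ) * 7 + (w 1 : ℕ)

theorem code2_facts : Function.Injective code2 ∧
    ∀ w, cap7 (code2 w) = ([6, 1, 3] : List ℕ).getD (cls7 w) 0 := by decide +kernel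

theorem res_coe {l : ℕ} [NeZero l] (v : ℤ) : ((res l v : ℕ) : ZMod l) = (v : ZMod l) := by
  have h1 := Int.emod_nonneg v (Int.natCast_ne_zero.2 (NeZero.ne l))
  show (((v % (l : ℤ)).toNat : ℕ) : ZMod l) = (v : ZMod l)
  rw [← Int.cast_natCast, Int.toNat_of_nonneg h1, ZMod.intCast_mod]

theorem dot_row (r : ℕ) (y : Fin 7 → ℤ) :
    dotN (List.ofFn fun j : Fin 7 => ((res 7 (co r j) : Fin 7) : ℕ))
      (List.ofFn fun j : Fin 7 => ((res 7 (y j) : Fin 7) : ℕ)) % 7 = (res 7 (vz r y) : ℕ) := by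
  have h : ((dotN (List.ofFn fun j : Fin 7 => ((res 7 (co r j) : Fin 7) : ℕ))
      (List.ofFn fun j : Fin 7 => ((res 7 (y j) : Fin 7) : ℕ)) : ℕ) : ZMod 7) = ((res 7 (vz r y) : ℕ) : ZMod 7) := by
    simp only [List.ofFn_succ, List.ofFn_zero, dotN, Nat.cast_add, Nat.cast_mul, Nat.cast_zero, res_coe, vz,
      Fin.sum_univ_seven, Int.cast_add, Int.cast_mul]
    simp [add_assoc]
  have h2 := (ZMod.natCast_eq_natCast_iff' _ _ 7).1 h
  rwa [Nat.mod_eq_of_lt (res 7 (vz r y)).2] at h2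

theorem not_small {q : List ℕ} {levs : List (ℕ × List (ℕ × List ℕ))} {idx : List ℕ}
    (h1 : levs.flatMap Prod.snd = idx.map (item7 q)) (h2 : idx.Perm (List.range 126))
    (h3 : levsOK levs [] = true) (h4 : nope cap7 7 levs [0, 0, 0, 0, 0, 0, 0] [] = true)
    (Y : Fin 2 → Fin 7 → ℤ) (hY : Y 0 = ptOf q)
    (hcap : ∀ w, (vals 7 Y).count w ≤ ([6, 1, 3] : List ℕ).getD (cls7 w) 0) : False := by
  obtain ⟨yl, hyl⟩ : ∃ yl, yl = List.ofFn fun j : Fin 7 => ((res 7 (Y 1 j) : Fin 7) : ℕ) := ⟨_, rfl⟩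
  have hlt : ∀ j, yl.getD j 0 < 7 := fun j => by
    by_cases hj : j < yl.length
    · subst hyl
      rw [List.getD_eq_getElem _ _ hj, List.getElem_ofFn]
      exact Fin.isLt _
    · rw [List.getD_eq_default _ _ (not_lt.1 hj)]; norm_num
  have hf := nope_false cap7 hlt levs [0, 0, 0, 0, 0, 0, 0] [] [] h3 (by simp [hyl]) (by simp) fun n => ?_
  · rw [h4] at hf; exact Bool.noConfusion hf
  have hp : ((levs.flatMap Prod.snd).map (code 7 yl)).Perm ((vals 7 Y).map code2) := by
    rw [h1, List.map_map]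
    refine (h2.map _).trans (List.Perm.of_eq ?_)
    rw [vals, List.map_map]
    refine List.map_congr_left fun r _ => ?_
    simp only [Function.comp, code, item7, code2, hyl, dot_row, hY]
  rw [List.append_nil, hp.count_eq]
  by_cases hn : n ∈ (vals 7 Y).map code2
  · obtain ⟨w, -, rfl⟩ := List.mem_map.1 hn
    rw [List.count_map_of_injective _ _ code2_facts.1, code2_facts.2]
    exact hcap w
  · rw [List.count_eq_zero.2 hn]
    exact Nat.zero_le _

theorem marg7 :
    (∀ j : Fin 3, (Finset.univ.filter fun w : Fin 2 → Fin 7 => w 0 = 0 ∧ cls7 w = j).card =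
      ([1, 6, 0] : List ℕ).getD j 0) ∧
    (∀ k : Fin 7, k ≠ 0 → ∀ j : Fin 3, (Finset.univ.filter fun w : Fin 2 → Fin 7 => w 0 = k ∧ cls7 w = j).card =
      ([0, 1, 6] : List ℕ).getD j 0) ∧
    (∀ j : Fin 3, (Finset.univ.filter fun w : Fin 2 → Fin 7 => w 0 + w 1 = 0 ∧ cls7 w = j).card =
      ([1, 0, 6] : List ℕ).getD j 0) ∧
    (∀ k : Fin 7, k ≠ 0 → ∀ j : Fin 3, (Finset.univ.filter fun w : Fin 2 → Fin 7 => w 0 + w 1 = k ∧ cls7 w = j).card =
      ([0, 2, 5] : List ℕ).getD j 0) ∧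
    (∀ j : Fin 3, (Finset.univ.filter fun w : Fin 2 → Fin 7 => cls7 w = j).card =
      ([1, 12, 36] : List ℕ).getD j 0) := by decide +kernel

theorem res_add {l : ℕ} [NeZero l] (v w : ℤ) : res l v + res l w = res l (v + w) := by
  apply Fin.ext
  rw [Fin.val_add]
  have h : (((res l v : ℕ) + (res l w : ℕ) : ℕ) : ZMod l) = ((res l (v + w) : ℕ) : ZMod l) := by
    rw [Nat.cast_add, res_coe, res_coe, res_coe, Int.cast_add]
  have h2 := (ZMod.natCast_eq_natCast_iff' _ _ l).1 h
  rwa [Nat.mod_eq_of_lt (res l (v + w)).2] at h2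

/-- No pair of points whose residues are equally frequent in each class. -/
theorem no_seven (X : Fin 2 → Fin 7 → ℤ) (g : Fin 3 → ℕ) (h : ∀ w, (vals 7 X).count w = g (cls7 w))
    (hne : g 0 ≠ 126) : False := by
  obtain ⟨m0, m1, m2, m3, m4⟩ := marg7
  have hsum : g 0 + 12 * g 1 + 36 * g 2 = 126 := by
    have e := count_cls (vals 7 X) cls7 g h (fun _ => ()) ()
    rw [List.map_const', List.count_replicate_self, length_vals] at e
    simp only [true_and, m4, Fin.sum_univ_three] at e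
    simp at e
    omega
  have hA : Uni (vals1 7 (X 0)) ∧ (vals1 7 (X 0)).count 0 = g 0 + 6 * g 1 := by
    rw [← map_vals]
    refine ⟨fun k hk => ?_, ?_⟩
    · rw [count_cls _ cls7 g h, count_cls _ cls7 g h]
      simp only [m1 k hk, m1 1 (by decide)]
    · rw [count_cls _ cls7 g h]
      simp only [m0, Fin.sum_univ_three]
      simp
  have hB : Uni (vals1 7 (X 0 + X 1)) ∧ (vals1 7 (X 0 + X 1)).count 0 = g 0 + 6 * g 2 := by
    have e : vals1 7 (X 0 + X 1) = (vals 7 X).map fun w => w 0 + w 1 := by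
      simp [vals, vals1, res_add, vz, mul_add, Finset.sum_add_distrib]
    rw [e]
    refine ⟨fun k hk => ?_, ?_⟩
    · rw [count_cls _ cls7 g h, count_cls _ cls7 g h]
      simp only [m3 k hk, m3 1 (by decide)]
    · rw [count_cls _ cls7 g h]
      simp only [m2, Fin.sum_univ_three]
      simp
  have hA0 := count_zero_seven _ hA.1
  have hB0 := count_zero_seven _ hB.1
  rw [hA.2] at hA0
  rw [hB.2] at hB0
  simp only [List.mem_cons, List.not_mem_nil, or_false] at hA0 hB0
  obtain ⟨hz, hb, hc⟩ : g 0 = 6 ∧ g 1 = 1 ∧ g 2 = 3 := by omega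
  obtain ⟨Y, hY, h1, h2⟩ := exists_alcove_vals (l := 7) (n := 1) X
  obtain ⟨q, hq, hYq⟩ := exists_mem_alc h1 h2
  have hcap : ∀ w, (vals 7 Y).count w ≤ ([6, 1, 3] : List ℕ).getD (cls7 w) 0 := fun w => by
    rw [hY.count_eq, h]
    generalize cls7 w = j
    fin_cases j <;> simp [hz, hb, hc]
  have hp := hY.map fun w => w 0
  rw [map_vals, map_vals, hYq] at hp
  have hq12 : (vals1 7 (ptOf q)).count 0 = 12 := by
    rw [hp.count_eq, hA.2, hz, hb]
  rcases alc_seven q hq (hA.1.of_perm hp.symm) with h' | h' | ⟨-, h'⟩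
  · omega
  · simp only [List.mem_cons, List.not_mem_nil, or_false] at h'
    omega
  obtain ⟨l1, l2, l3, l4, l5, l6⟩ := levs_ok
  simp only [List.mem_cons, List.not_mem_nil, or_false] at h'
  rcases h' with rfl | rfl
  · exact not_small l1 l2 l3 nope0 Y hYq hcap
  · exact not_small l4 l5 l6 nope1 Y hYq hcap

end CfsgLib.Known.AltE7
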