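import Cfsg.Agent.Lib.Known.AltE7.Seven

/-!
# No triple of points with the residues of three commuting elements of order five
-/

set_option autoImplicit false
set_option maxRecDepth 20000
set_option maxHeartbeats 1000000

namespace CfsgLib.Known.AltE7

/-- The four classes of residues at three points. -/
def cls5 (w : Fin 3 → Fin 5) : Fin 4 :=
  Fin.ofNat 4 ((if w 0 = 0 then 0 else 1) + (if w 1 = 0 then 0 else 1) + if w 2 = 0 then 0 else 1)

theorem marg5 :
    (∀ j : Fin 4, (Finset.univ.filter fun w : Fin 3 → Fin 5 => cls5 w = j).card =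
      ([1, 12, 48, 64] : List ℕ).getD j 0) ∧
    (∀ k : Fin 5, ∀ j : Fin 4, (Finset.univ.filter fun w : Fin 3 → Fin 5 => w 0 = k ∧ cls5 w = j).card =
      ((if k = 0 then [1, 8, 16, 0] else [0, 1, 8, 16]) : List ℕ).getD j 0) ∧
    (∀ k : Fin 5, ∀ j : Fin 4, (Finset.univ.filter fun w : Fin 3 → Fin 5 => w 0 + w 1 = k ∧ cls5 w = j).card =
      ((if k = 0 then [1, 4, 4, 16] else [0, 2, 11, 12]) : List ℕ).getD j 0) ∧
    (∀ k : Fin 5, ∀ j : Fin 4, (Finset.univ.filter fun w : Fin 3 → Fin 5 => w 0 + w 1 + w 2 = k ∧ cls5 w = j).card =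
      ((if k = 0 then [1, 0, 12, 12] else [0, 3, 9, 13]) : List ℕ).getD j 0) := by decide +kernel

theorem diffTab_ok : ∀ r < 126,
    (diffTab.getD r (0, 0, 0)).1 < 126 ∧ (diffTab.getD r (0, 0, 0)).2.1 < 126 ∧
      (diffTab.getD r (0, 0, 0)).2.2 < 126 ∧
      [r, (diffTab.getD r (0, 0, 0)).1, (diffTab.getD r (0, 0, 0)).2.1, (diffTab.getD r (0, 0, 0)).2.2].Nodup ∧
      ∀ j < 7, co (diffTab.getD r (0, 0, 0)).1 j = -co r j ∧
        co (diffTab.getD r (0, 0, 0)).2.2 j = co (diffTab.getD r (0, 0, 0)).2.1 j + co r j := by decide +kernel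

theorem le_count {α : Type*} [DecidableEq α] (f : ℕ → α) (a : α) (rs : List ℕ) (hnd : rs.Nodup)
    (hlt : ∀ r ∈ rs, r < 126 ∧ f r = a) : rs.length ≤ ((List.range 126).map f).count a := by
  have hsub : rs.Subperm (List.range 126) :=
    List.subperm_of_subset hnd fun r hr => List.mem_range.2 (hlt r hr).1
  obtain ⟨l', hp, hs⟩ := hsub
  refine le_trans ?_ (le_of_eq_of_le ((hp.map f).count_eq a).symm ((hs.map f).count_le a))
  rw [List.count_eq_length.2 fun b hb => ?_, List.length_map]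
  obtain ⟨r, hr, rfl⟩ := List.mem_map.1 hb
  exact (hlt r hr).2.symm

theorem res_eq_zero_iff {l : ℕ} [NeZero l] (v : ℤ) : res l v = 0 ↔ (v : ZMod l) = 0 := by
  rw [← res_coe (l := l) v, CharP.cast_eq_zero_iff (ZMod l) l, Fin.ext_iff, Fin.val_zero]
  exact ⟨fun h => h ▸ dvd_zero l, fun h => Nat.eq_zero_of_dvd_of_lt h (res l v).2⟩

/-- No triple of points whose residues are equally frequent in each class. -/
theorem no_five (X : Fin 3 → Fin 7 → ℤ) (g : Fin 4 → ℕ) (h : ∀ w, (vals 5 X).count w = g (cls5 w))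
    (hne : g 0 ≠ 126) : False := by
  obtain ⟨m0, m1, m2, m3⟩ := marg5
  have hsum : g 0 + 12 * g 1 + 48 * g 2 + 64 * g 3 = 126 := by
    have e := count_cls (vals 5 X) cls5 g h (fun _ => ()) ()
    rw [List.map_const', List.count_replicate_self, length_vals] at e
    simp only [true_and, m0, Fin.sum_univ_four] at e
    simp at e
    omega
  have hU : ∀ (f : (Fin 3 → Fin 5) → Fin 5) (Z : Fin 7 → ℤ) (c0 c1 : List ℕ),
      (∀ k j, (Finset.univ.filter fun w : Fin 3 → Fin 5 => f w = k ∧ cls5 w = j).card =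
        (if k = 0 then c0 else c1).getD (j : ℕ) 0) →
      vals1 5 Z = (vals 5 X).map f →
      (c0.getD 0 0 * g 0 + c0.getD 1 0 * g 1 + c0.getD 2 0 * g 2 + c0.getD 3 0 * g 3 = 126 ∨
        c0.getD 0 0 * g 0 + c0.getD 1 0 * g 1 + c0.getD 2 0 * g 2 + c0.getD 3 0 * g 3 = 26) := by
    intro f Z c0 c1 hm e
    have hu : Uni (vals1 5 Z) := fun k hk => by
      rw [e, count_cls _ cls5 g h, count_cls _ cls5 g h]
      simp only [hm, if_neg hk, if_neg (show (1 : Fin 5) ≠ 0 by decide)]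
    have h0 := count_zero_five Z hu
    rw [e, count_cls _ cls5 g h] at h0
    simp only [hm, if_true, Fin.sum_univ_four, List.mem_cons, List.not_mem_nil, or_false] at h0
    simpa using h0
  have ha := hU _ (X 0) _ _ m1 (map_vals X 0).symm
  have hb := hU _ (X 0 + X 1) _ _ m2 (by simp [vals, vals1, res_add, vz, mul_add, Finset.sum_add_distrib])
  have hc := hU _ (X 0 + X 1 + X 2) _ _ m3 (by simp [vals, vals1, res_add, vz, mul_add, Finset.sum_add_distrib])
  simp at ha hb hc
  obtain ⟨g0, g1, g2, g3⟩ : g 0 = 2 ∧ g 1 = 1 ∧ g 2 = 1 ∧ g 3 = 1 := by omega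
  have h1 : ∀ w, w ≠ 0 → (vals 5 X).count w ≤ 1 := fun w hw => by
    rw [h]
    have : cls5 w ≠ 0 := by revert w; decide +kernel
    revert this
    generalize cls5 w = j
    intro hj
    fin_cases j <;> simp_all
  have h00 : (vals 5 X).count 0 = 2 := by
    rw [h, show cls5 0 = 0 by decide +kernel, g0]
  obtain ⟨r, hr, hr0⟩ := List.mem_map.1 (List.count_pos_iff.1 (by rw [h00]; norm_num : 0 < (vals 5 X).count 0))
  obtain ⟨hu, hs, ht, hnd, hco⟩ := diffTab_ok r (List.mem_range.1 hr)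
  generalize diffTab.getD r (0, 0, 0) = p at hu hs ht hnd hco
  obtain ⟨u, s, t⟩ := p
  obtain ⟨V, hV⟩ : ∃ V : ℕ → Fin 3 → Fin 5, V = fun r i => res 5 (vz r (X i)) := ⟨_, rfl⟩
  have hcast : ∀ i, ((vz r (X i) : ℤ) : ZMod 5) = 0 := fun i => (res_eq_zero_iff _).1 (congrFun hr0 i)
  have hVu : V u = 0 := funext fun i => by
    rw [hV]
    refine (res_eq_zero_iff _).2 ?_
    rw [show vz u (X i) = -vz r (X i) by
      simp [vz, (hco _ (Fin.is_lt _)).1, Finset.sum_neg_distrib], Int.cast_neg, hcast, neg_zero]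
  have hVr : V r = 0 := by rw [hV]; exact hr0
  have hVst : V t = V s := funext fun i => by
    rw [hV]
    refine res_congr ?_
    rw [show vz t (X i) = vz s (X i) + vz r (X i) by
      simp [vz, (hco _ (Fin.is_lt _)).2, add_mul, Finset.sum_add_distrib], Int.cast_add, hcast, add_zero]
  have hv : vals 5 X = (List.range 126).map V := by rw [hV]; rfl
  simp only [List.nodup_cons, List.mem_cons, List.not_mem_nil, or_false, not_or, not_false_eq_true,
    List.nodup_nil, and_true] at hnd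
  obtain ⟨⟨n1, n2, n3⟩, ⟨n4, n5⟩, n6⟩ := hnd
  by_cases hs0 : V s = 0
  · have := le_count V 0 [r, u, s] (by simp [n1, n2, n4]) (by
      simp [hVr, hVu, hs0, List.mem_range.1 hr, hu, hs])
    rw [← hv, h00] at this
    simp at this
  · have := le_count V (V s) [s, t] (by simp [n6]) (by simp [hVst, hs, ht])
    rw [← hv] at this
    have := h1 (V s) hs0
    simp at *
    omega

end CfsgLib.Known.AltE7
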