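import Cfsg.Agent.Lib.Known.AltE7.Values

/-!
# Points at which the nonzero residues of the roots of type E7 are equally frequent
-/

set_option autoImplicit false
set_option maxRecDepth 20000

namespace CfsgLib.Known.AltE7

/-- The nonzero residues are equally frequent. -/
def Uni {l : ℕ} [NeZero l] (L : List (Fin l)) : Prop := ∀ a : Fin l, a ≠ 0 → L.count a = L.count 1

instance {l : ℕ} [NeZero l] (L : List (Fin l)) : Decidable (Uni L) := by unfold Uni; infer_instance

/-- The residues at one point. -/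
def vals1 (l : ℕ) [NeZero l] (X : Fin 7 → ℤ) : List (Fin l) := (List.range 126).map fun r => res l (vz r X)

theorem map_vals {n l : ℕ} [NeZero l] (X : Fin n → Fin 7 → ℤ) (i : Fin n) :
    (vals l X).map (fun w => w i) = vals1 l (X i) := by simp [vals, vals1]

/-- The points of the alcove. -/
def alc (l : ℕ) : List (List ℕ) :=
  (List.range (l / 2 + 1)).flatMap fun a => (List.range (l / 2 + 1)).flatMap fun b =>
    (List.range (l / 3 + 1)).flatMap fun c => (List.range (l / 4 + 1)).flatMap fun d =>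
      (List.range (l / 3 + 1)).flatMap fun e => (List.range (l / 2 + 1)).flatMap fun f =>
        ((List.range (l + 1)).filter fun g => decide (2 * a + 2 * b + 3 * c + 4 * d + 3 * e + 2 * f + g ≤ l)).map
          fun g => [a, b, c, d, e, f, g]

/-- A list as a point. -/
def ptOf (q : List ℕ) : Fin 7 → ℤ := fun j => (q.getD j 0 : ℕ)

theorem exists_mem_alc {l : ℕ} {X : Fin 7 → ℤ} (h0 : ∀ j, 0 ≤ X j)
    (h : 2 * X 0 + 2 * X 1 + 3 * X 2 + 4 * X 3 + 3 * X 4 + 2 * X 5 + X 6 ≤ l) :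
    ∃ q ∈ alc l, X = ptOf q := by
  have := h0 0; have := h0 1; have := h0 2; have := h0 3; have := h0 4; have := h0 5; have := h0 6
  refine ⟨[(X 0).toNat, (X 1).toNat, (X 2).toNat, (X 3).toNat, (X 4).toNat, (X 5).toNat, (X 6).toNat], ?_, ?_⟩
  · simp only [alc, List.mem_flatMap, List.mem_range, List.mem_map, List.mem_filter, decide_eq_true_eq]
    exact ⟨_, by omega, _, by omega, _, by omega, _, by omega, _, by omega, _, by omega, _,
      ⟨by omega, by omega⟩, rfl⟩
  · funext j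
    have := h0 j
    fin_cases j <;> simp [ptOf] <;> omega

theorem alc_seven : ∀ q ∈ alc 7, Uni (vals1 7 (ptOf q)) →
    (vals1 7 (ptOf q)).count 0 = 126 ∨
      (vals1 7 (ptOf q)).count 0 ∈ ([24, 30] : List ℕ) ∨
      ((vals1 7 (ptOf q)).count 0 = 12 ∧ q ∈ [[0, 0, 0, 1, 0, 1, 0], [1, 0, 0, 1, 0, 0, 1]]) := by
  decide +kernel

theorem alc_five : ∀ q ∈ alc 5, Uni (vals1 5 (ptOf q)) →
    (vals1 5 (ptOf q)).count 0 = 126 ∨ (vals1 5 (ptOf q)).count 0 = 26 := by decide +kernel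

theorem fixed_seven : ∀ a : Fin 7, a ≠ 0 →
    ¬ Uni (vals1 7 ![0, (a : ℕ), 0, 0, 0, 0, 0]) := by decide +kernel

theorem fixed_five : ∀ a b c : Fin 5, (a ≠ 0 ∨ b ≠ 0 ∨ c ≠ 0) →
    ¬ Uni (vals1 5 ![0, (a : ℕ), 0, 0, 0, (b : ℕ), (c : ℕ)]) := by decide +kernel

theorem Uni.of_perm {l : ℕ} [NeZero l] {L L' : List (Fin l)} (h : L.Perm L') (hU : Uni L) : Uni L' :=
  fun a ha => by rw [← h.count_eq, ← h.count_eq]; exact hU a ha

theorem count_zero_seven (X : Fin 7 → ℤ) (hU : Uni (vals1 7 X)) :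
    (vals1 7 X).count 0 ∈ ([126, 12, 24, 30] : List ℕ) := by
  obtain ⟨Y, hY, h1, h2⟩ := exists_alcove_vals (l := 7) (n := 0) fun _ => X
  obtain ⟨q, hq, hYq⟩ := exists_mem_alc h1 h2
  have hp := hY.map fun w => w 0
  rw [map_vals, map_vals, hYq] at hp
  rw [← hp.count_eq]
  rcases alc_seven q hq (hU.of_perm hp.symm) with h | h | ⟨h, -⟩
  · simp [h]
  · simp only [List.mem_cons, List.not_mem_nil, or_false] at h ⊢
    omega
  · simp [h]

theorem count_zero_five (X : Fin 7 → ℤ) (hU : Uni (vals1 5 X)) :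
    (vals1 5 X).count 0 ∈ ([126, 26] : List ℕ) := by
  obtain ⟨Y, hY, h1, h2⟩ := exists_alcove_vals (l := 5) (n := 0) fun _ => X
  obtain ⟨q, hq, hYq⟩ := exists_mem_alc h1 h2
  have hp := hY.map fun w => w 0
  rw [map_vals, map_vals, hYq] at hp
  rw [← hp.count_eq]
  rcases alc_five q hq (hU.of_perm hp.symm) with h | h <;> simp [h]

end CfsgLib.Known.AltE7
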